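import Mathlib
import Cfsg.Agent.MinNonCA98.Basic
import Cfsg.Agent.MinNonCA98.RadicalBasic
import Cfsg.Agent.FrobSystem.Main

/-!
# Minimal non-CA groups: normal subgroups, first reduction

* `centralizer_le_center` : a noncentral normal subgroup has central centraliser;
* `exists_perfect_normal` : if some noncentral normal subgroup is proper, so is some perfect one.
-/

set_option autoImplicit false
set_option linter.style.haveILetI false

namespace CfsgLib.MinNonCA98.Perfect

variable {G : Type*} [Group G]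

/-- Normal solvable subgroups are central. -/
def RadCentral (G : Type*) [Group G] : Prop :=
  ∀ (N : Subgroup G), N.Normal → Group.IsSolvable N → N ≤ Subgroup.center G

theorem mem_normalizer_map_subtype {M : Subgroup G} (P : Subgroup M) (m : M) :
    m ∈ Subgroup.normalizer (P : Set M) ↔
      (m : G) ∈ Subgroup.normalizer ((P.map M.subtype : Subgroup G) : Set G) := by
  rw [Subgroup.mem_normalizer_iff, Subgroup.mem_normalizer_iff]
  constructor
  · intro hm a
    constructor
    · rintro ⟨b, hb, rfl⟩
      exact ⟨m * b * m⁻¹, (hm b).mp hb, by simp⟩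
    · rintro ⟨b, hb, e⟩
      refine ⟨m⁻¹ * b * m, (hm _).mpr (by
        rw [show m * (m⁻¹ * b * m) * m⁻¹ = b by group]; exact hb), ?_⟩
      simp only [map_mul, map_inv, Subgroup.coe_subtype, Subgroup.coe_inv] at e ⊢
      rw [e]; group
  · intro hm b
    have := hm (b : G)
    rw [show (b : G) = M.subtype b from rfl] at this
    rw [← Subgroup.mem_map_iff_mem M.subtype_injective (x := b), this,
      ← Subgroup.mem_map_iff_mem M.subtype_injective (x := m * b * m⁻¹)]
    simp

theorem exists_not_commute (hrad : RadCentral G) {N : Subgroup G} (hN : N.Normal)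
    (hNz : ¬ N ≤ Subgroup.center G) : ∃ a ∈ N, ∃ b ∈ N, ¬ Commute a b := by
  by_contra h
  push Not at h
  exact hNz (hrad N hN (Group.isSolvable_of_comm fun a b => Subtype.ext (h a a.2 b b.2).eq))

theorem centralizer_normal (N : Subgroup G) [hN : N.Normal] :
    (Subgroup.centralizer (N : Set G)).Normal := by
  refine ⟨fun c hc g => Subgroup.mem_centralizer_iff.mpr fun n hn => ?_⟩
  have h1 : g⁻¹ * n * g * c = c * (g⁻¹ * n * g) :=
    Subgroup.mem_centralizer_iff.mp hc _ (hN.conj_mem' n hn g)
  calc n * (g * c * g⁻¹) = g * (g⁻¹ * n * g * c) * g⁻¹ := by group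
    _ = g * c * g⁻¹ * n := by rw [h1]; group

/-- A noncentral normal subgroup has central centraliser. -/
theorem centralizer_le_center [Finite G] (h : MinNonCA G) (hrad : RadCentral G) (N : Subgroup G)
    (hN : N.Normal) (hNz : ¬ N ≤ Subgroup.center G) :
    Subgroup.centralizer (N : Set G) ≤ Subgroup.center G := by
  haveI : Fact (Nat.Prime 2) := ⟨Nat.prime_two⟩
  haveI := hN
  set C := Subgroup.centralizer (N : Set G) with hC
  haveI hCn : C.Normal := centralizer_normal N
  by_contra hCz
  obtain ⟨a, ha, b, hb, hab⟩ := exists_not_commute hrad hCn hCz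
  obtain ⟨n₁, hn₁, n₂, hn₂, hn⟩ := exists_not_commute hrad hN hNz
  have hcomm : ∀ c ∈ C, ∀ n ∈ N, Commute c n := fun c hc n hn =>
    (Subgroup.mem_centralizer_iff.mp hc n hn).symm
  have htop : N ⊔ C = ⊤ := by
    by_contra hne
    exact hn (h.commute_of_proper hne (Subgroup.mem_sup_right ha) (Subgroup.mem_sup_right hb) hab
      (Subgroup.mem_sup_left hn₁) (Subgroup.mem_sup_left hn₂) (hcomm a ha _ hn₁) (hcomm a ha _ hn₂))
  let S : Sylow 2 N := default
  set P : Subgroup G := (S : Subgroup N).map N.subtype with hP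
  set L : Subgroup G := N ⊓ Subgroup.normalizer (P : Set G) with hL
  have hPN : P ≤ N := Subgroup.map_subtype_le _
  by_cases hH : L ⊔ C = ⊤
  · refine hNz (hrad N hN (Rad.solvable_of_normal_sylow_two S ?_))
    rw [← Subgroup.normalizer_eq_top_iff, eq_top_iff]
    intro n _
    rw [mem_normalizer_map_subtype]
    obtain ⟨l, hl, c, hc, hlc⟩ :=
      Subgroup.mem_sup_of_normal_right.mp (hH.ge (Subgroup.mem_top (n : G)))
    have hcN : c ∈ Subgroup.normalizer (P : Set G) := by
      rw [Subgroup.mem_normalizer_iff]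
      intro p
      constructor
      · intro hp
        rw [(hcomm c hc p (hPN hp)).eq, mul_inv_cancel_right]
        exact hp
      · intro hp
        have h2 := hcomm c hc _ (hPN hp)
        have h3 : c * p * c⁻¹ = p := by
          calc c * p * c⁻¹ = c⁻¹ * (c * (c * p * c⁻¹)) := by group
            _ = p := by rw [h2.eq]; group
        rwa [h3] at hp
    rw [← hlc]
    exact mul_mem hl.2 hcN
  · have hLcomm : ∀ l ∈ L, ∀ m ∈ L, Commute l m := fun l hl m hm =>
      h.commute_of_proper hH (Subgroup.mem_sup_right ha) (Subgroup.mem_sup_right hb) hab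
        (Subgroup.mem_sup_left hl) (Subgroup.mem_sup_left hm) (hcomm a ha l hl.1)
        (hcomm a ha m hm.1)
    refine hNz (hrad N hN (Rad.solvable_of_comm_normalizer S fun u hu v hv => ?_))
    exact Subtype.ext (hLcomm _ ⟨u.2, (mem_normalizer_map_subtype _ u).mp hu⟩
      _ ⟨v.2, (mem_normalizer_map_subtype _ v).mp hv⟩).eq

/-- A perfect group has no nontrivial solvable quotient. -/
theorem eq_top_of_solvable_quotient {N : Subgroup G} [N.Normal] (hperf : commutator G = ⊤)
    [Group.IsSolvable (G ⧸ N)] : N = ⊤ := by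
  by_contra hne
  haveI : Nontrivial (G ⧸ N) := (QuotientGroup.nontrivial_iff).mpr hne
  have h1 : commutator (G ⧸ N) = ⊤ := by
    rw [commutator_def] at hperf ⊢
    rw [← Subgroup.map_top_of_surjective _ (QuotientGroup.mk'_surjective N),
      ← Subgroup.map_commutator, hperf]
  exact (Group.IsSolvable.commutator_lt_top_of_nontrivial (G ⧸ N)).ne h1

/-- If a maximal proper normal subgroup is noncentral, the group is not perfect. -/
theorem commutator_ne_top_of_normal [Finite G] (h : MinNonCA G) (hrad : RadCentral G)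
    {N : Subgroup G} (hN : N.Normal) (hNz : ¬ N ≤ Subgroup.center G) (hNt : N ≠ ⊤) :
    commutator G ≠ ⊤ := by
  haveI : Fact (Nat.Prime 2) := ⟨Nat.prime_two⟩
  intro hperf
  obtain ⟨K₀, hNK, hK₀⟩ :=
    Finite.exists_le_maximal (p := fun K : Subgroup G => K.Normal ∧ K ≠ ⊤) (a := N) ⟨hN, hNt⟩
  obtain ⟨hK₀n, hK₀t⟩ := hK₀.prop
  haveI := hK₀n
  have hK₀z : ¬ K₀ ≤ Subgroup.center G := fun hle => hNz (hNK.trans hle)
  obtain ⟨x, hx⟩ := h.exists_red
  set M := Subgroup.centralizer ({x} : Set G) with hM
  have hnle : ¬ K₀ ≤ M := fun hle => hx.1 (centralizer_le_center h hrad K₀ hK₀n hK₀z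
    (Subgroup.mem_centralizer_iff.mpr fun k hk =>
      (mem_centralizer_iff_commute.mp (hle hk)).eq.symm))
  obtain ⟨k₀, hk₀, hk₀x⟩ := SetLike.not_le_iff_exists.mp hnle
  have htop : K₀ ⊔ M = ⊤ :=
    (hx.isCoatom h).2 _ (lt_of_le_of_ne le_sup_right fun he => hnle (le_sup_left.trans he.ge))
  set q := QuotientGroup.mk' K₀ with hq
  have hsurj : Function.Surjective (q.comp M.subtype) := fun y => by
    obtain ⟨g, rfl⟩ := QuotientGroup.mk'_surjective K₀ y
    obtain ⟨k, hk, m, hm, rfl⟩ :=
      Subgroup.mem_sup_of_normal_left.mp (htop.ge (Subgroup.mem_top g))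
    exact ⟨⟨m, hm⟩, by simp [hq, (QuotientGroup.eq_one_iff k).mpr hk]⟩
  suffices hsol : Group.IsSolvable (G ⧸ K₀) by
    haveI := hsol
    exact hK₀t (eq_top_of_solvable_quotient hperf)
  let S : Sylow 2 M := default
  set P : Subgroup G := (S : Subgroup M).map M.subtype with hP
  set L : Subgroup G := M ⊓ Subgroup.normalizer (P : Set G) with hL
  by_cases hH : K₀ ⊔ L = ⊤
  · have hLn : L ≤ Subgroup.normalizer ((K₀ ⊔ P : Subgroup G) : Set G) := by
      intro l hl
      rw [Subgroup.mem_normalizer_iff_map_conj_eq, Subgroup.map_sup]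
      congr 1
      · rw [← Subgroup.mem_normalizer_iff_map_conj_eq]
        rw [Subgroup.normalizer_eq_top_iff.mpr hK₀n]
        exact Subgroup.mem_top l
      · exact Subgroup.mem_normalizer_iff_map_conj_eq.mp hl.2
    haveI hKP : (K₀ ⊔ P).Normal := by
      rw [← Subgroup.normalizer_eq_top_iff, ← top_le_iff, ← hH, sup_le_iff]
      exact ⟨le_sup_left.trans Subgroup.le_normalizer, hLn⟩
    by_cases hPK : P ≤ K₀
    · refine Cfsg.Agent.S0205.result ?_
      rw [← Nat.not_even_iff_odd, even_iff_two_dvd]
      intro h2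
      have hker : (S : Subgroup M) ≤ (q.comp M.subtype).ker := fun s hs => by
        rw [MonoidHom.mem_ker]
        exact (QuotientGroup.eq_one_iff _).mpr (hPK (Subgroup.mem_map_of_mem M.subtype hs))
      refine S.not_dvd_index (h2.trans ?_)
      rw [← Nat.card_congr (QuotientGroup.quotientKerEquivOfSurjective _ hsurj).toEquiv,
        ← Subgroup.index_eq_card]
      exact Subgroup.index_dvd_of_le hker
    · have hKPtop : K₀ ⊔ P = ⊤ := by
        by_contra hne
        exact hPK (le_sup_right.trans (hK₀.le_of_ge ⟨hKP, hne⟩ le_sup_left))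
      haveI : Group.IsNilpotent (S : Subgroup M) := S.2.isNilpotent
      haveI : Group.IsSolvable (S : Subgroup M) := inferInstance
      refine Group.isSolvable_of_surjective
        (f := (q.comp M.subtype).comp (S : Subgroup M).subtype) fun y => ?_
      obtain ⟨g, rfl⟩ := QuotientGroup.mk'_surjective K₀ y
      obtain ⟨k, hk, m, ⟨s, hs, rfl⟩, rfl⟩ :=
        Subgroup.mem_sup_of_normal_left.mp (hKPtop.ge (Subgroup.mem_top g))
      exact ⟨⟨s, hs⟩, by simp [hq, (QuotientGroup.eq_one_iff k).mpr hk]⟩
  · have hxL : x ∈ L := by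
      refine ⟨mem_centralizer_self x, Subgroup.mem_normalizer_iff.mpr fun a => ?_⟩
      constructor
      · rintro ⟨b, hb, rfl⟩
        refine ⟨b, hb, ?_⟩
        rw [Subgroup.coe_subtype, (mem_centralizer_iff_commute.mp b.2).eq, mul_inv_cancel_right]
      · rintro ⟨b, hb, e⟩
        refine ⟨b, hb, ?_⟩
        rw [Subgroup.coe_subtype] at e ⊢
        have hcb := mem_centralizer_iff_commute.mp b.2
        calc (b : G) = x⁻¹ * (b : G) * x := by rw [mul_assoc, ← hcb.eq]; group
          _ = a := by rw [e]; group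
    haveI : Group.IsSolvable M := Rad.solvable_of_comm_normalizer S fun u hu v hv => Subtype.ext
      (h.commute_of_proper hH (Subgroup.mem_sup_right hxL) (Subgroup.mem_sup_left hk₀)
        (fun hc => hk₀x (mem_centralizer_iff_commute.mpr hc))
        (Subgroup.mem_sup_right ⟨u.2, (mem_normalizer_map_subtype _ u).mp hu⟩)
        (Subgroup.mem_sup_right ⟨v.2, (mem_normalizer_map_subtype _ v).mp hv⟩)
        (mem_centralizer_iff_commute.mp u.2) (mem_centralizer_iff_commute.mp v.2)).eq
    exact Group.isSolvable_of_surjective hsurj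

/-- If some noncentral normal subgroup is proper then so is a perfect one. -/
theorem exists_perfect_normal [Finite G] (h : MinNonCA G) (hrad : RadCentral G) {N : Subgroup G}
    (hN : N.Normal) (hNz : ¬ N ≤ Subgroup.center G) (hNt : N ≠ ⊤) :
    ∃ T : Subgroup G, T.Normal ∧ T ≠ ⊤ ∧ ¬ T ≤ Subgroup.center G ∧ ⁅T, T⁆ = T := by
  have hne := commutator_ne_top_of_normal h hrad hN hNz hNt
  obtain ⟨k, hk⟩ : ∃ k : ℕ, derivedSeries G (k + 2) = derivedSeries G (k + 1) := by
    haveI : Finite (Subgroup G) := inferInstance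
    by_contra hcon
    push Not at hcon
    have hlt : StrictAnti fun n => derivedSeries G (n + 1) := strictAnti_nat_of_succ_lt fun n =>
      lt_of_le_of_ne (derivedSeries_antitone G (by omega)) (hcon n)
    exact not_injective_infinite_finite _ hlt.injective
  refine ⟨derivedSeries G (k + 1), derivedSeries_normal G _, ?_, ?_, hk⟩
  · intro e
    refine hne (top_le_iff.mp ?_)
    rw [← e]
    exact (derivedSeries_antitone G (by omega : 1 ≤ k + 1)).trans (by rw [derivedSeries_one])
  · intro hle
    refine h.not_solvable ⟨⟨k + 1, ?_⟩⟩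
    rw [← hk, derivedSeries_succ]
    rw [eq_bot_iff, Subgroup.commutator_le]
    intro a ha b _
    rw [Subgroup.mem_bot, commutatorElement_eq_one_iff_mul_comm]
    exact (Subgroup.mem_center_iff.mp (hle ha) b).symm

end CfsgLib.MinNonCA98.Perfect
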