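import Mathlib
import Cfsg.Agent.MinNonCA98.Perfect.Normal
import Cfsg.Agent.Partition8.Basic
import Cfsg.Agent.FPFNilpotent.Main
import Cfsg.Agent.Frobenius.Basic

/-!
# A perfect proper normal subgroup of a minimal non-CA group, modulo its centre

`Ker T` : `T` is a perfect proper noncentral normal subgroup.  Its quotient by the centre has a
partition by the centralisers of its noncentral elements, has no nontrivial solvable normal
subgroup and no Frobenius complement; no component is self-normalising.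
-/

set_option autoImplicit false
set_option linter.style.haveILetI false

namespace CfsgLib.MinNonCA98.Perfect

universe u

variable {G : Type u} [Group G]

/-- The setting of the proof of perfectness. -/
structure Ker (T : Subgroup G) : Prop where
  mn : MinNonCA G
  rad : RadCentral G
  normal : T.Normal
  ne_top : T ≠ ⊤
  not_le : ¬ T ≤ Subgroup.center G
  perfect : ⁅T, T⁆ = T

/-- A noncentral element of `T`. -/
def Nc (T : Subgroup G) (b : G) : Prop := b ∈ T ∧ b ∉ Subgroup.center G

/-- `n` normalises the component of `b`. -/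
def Nm (b n : G) : Prop := Commute (n * b * n⁻¹) b

theorem commute_conj {a b : G} (g : G) (h : Commute a b) :
    Commute (g * a * g⁻¹) (g * b * g⁻¹) := by
  have := h.map (MulAut.conj g)
  simpa using this

theorem conj_not_mem_center {b : G} (g : G) (h : b ∉ Subgroup.center G) :
    g * b * g⁻¹ ∉ Subgroup.center G := fun hc => h (by
  have := (inferInstance : (Subgroup.center G).Normal).conj_mem' _ hc g
  simpa [mul_assoc] using this)

theorem commute_center {z : G} (hz : z ∈ Subgroup.center G) (g : G) : Commute g z :=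
  Subgroup.mem_center_iff.mp hz g

theorem nm_self (b : G) : Nm b b := by simp [Nm]

theorem nm_of_commute {b n : G} (h : Commute n b) : Nm b n := by
  simp [Nm, h.eq]

namespace Ker

variable {T : Subgroup G}

theorem conj_mem (hT : Ker T) {a : G} (ha : a ∈ T) (g : G) : g * a * g⁻¹ ∈ T :=
  hT.normal.conj_mem a ha g

theorem nc_conj (hT : Ker T) {b : G} (hb : Nc T b) (g : G) : Nc T (g * b * g⁻¹) :=
  ⟨hT.conj_mem hb.1 g, conj_not_mem_center g hb.2⟩

variable [Finite G]

theorem mem_center_of_commute (hT : Ker T) {g : G} (h : ∀ t ∈ T, Commute g t) :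
    g ∈ Subgroup.center G :=
  centralizer_le_center hT.mn hT.rad T hT.normal hT.not_le
    (Subgroup.mem_centralizer_iff.mpr fun t ht => (h t ht).eq.symm)

theorem exists_not_commute_mem (hT : Ker T) {b : G} (hb : b ∉ Subgroup.center G) :
    ∃ t ∈ T, ¬ Commute b t := by
  by_contra h
  push Not at h
  exact hb (hT.mem_center_of_commute h)

/-- Commuting is transitive on noncentral elements of `T`. -/
theorem trans (hT : Ker T) {a b c : G} (ha : a ∈ T) (hb : Nc T b) (hc : c ∈ T) (hab : Commute a b)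
    (hbc : Commute b c) : Commute a c := by
  obtain ⟨t, ht, hbt⟩ := hT.exists_not_commute_mem hb.2
  exact hT.mn.commute_of_proper hT.ne_top hb.1 ht hbt ha hc hab.symm hbc

theorem commute_conj_of_nm (hT : Ker T) {b n a : G} (hb : Nc T b) (hn : Nm b n) (ha : a ∈ T)
    (hab : Commute a b) : Commute (n * a * n⁻¹) b :=
  hT.trans (hT.conj_mem ha n) (hT.nc_conj hb n) hb.1 (commute_conj n hab) hn

/-- The normaliser of the component of `b`, in the whole group. -/
def nmSub (hT : Ker T) {b : G} (hb : Nc T b) : Subgroup G where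
  carrier := {n | Nm b n}
  one_mem' := nm_of_commute (Commute.one_left b)
  mul_mem' {n m} hn hm := by
    show Commute _ b
    rw [show n * m * b * (n * m)⁻¹ = n * (m * b * m⁻¹) * n⁻¹ by group]
    exact hT.commute_conj_of_nm hb hn (hT.conj_mem hb.1 m) hm
  inv_mem' {n} hn := by
    show Commute _ b
    have h1 := commute_conj n⁻¹ (show Commute (n * b * n⁻¹) b from hn)
    rw [show n⁻¹ * (n * b * n⁻¹) * n⁻¹⁻¹ = b by group] at h1
    exact h1.symm

theorem mem_nmSub (hT : Ker T) {b : G} (hb : Nc T b) {n : G} : n ∈ hT.nmSub hb ↔ Nm b n := Iff.rfl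

theorem nmSub_ne_top (hT : Ker T) {b : G} (hb : Nc T b) : hT.nmSub hb ≠ ⊤ := by
  intro htop
  set A : Subgroup G := T ⊓ Subgroup.centralizer ({b} : Set G) with hA
  have hAn : A.Normal := ⟨fun a ha g => ⟨hT.conj_mem ha.1 g, mem_centralizer_iff_commute.mpr
    (hT.commute_conj_of_nm hb (show Nm b g from htop.ge (Subgroup.mem_top g)) ha.1
      (mem_centralizer_iff_commute.mp ha.2).symm).symm⟩⟩
  have hAc : Group.IsSolvable A := Group.isSolvable_of_comm fun u v => Subtype.ext
    (hT.trans u.2.1 hb v.2.1 (mem_centralizer_iff_commute.mp u.2.2).symm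
      (mem_centralizer_iff_commute.mp v.2.2)).eq
  exact hb.2 (hT.rad A hAn hAc ⟨hb.1, mem_centralizer_self b⟩)

/-! ### The quotient by the centre -/

theorem mem_center_iff (hT : Ker T) {t : T} :
    t ∈ Subgroup.center T ↔ (t : G) ∈ Subgroup.center G := by
  rw [Subgroup.mem_center_iff]
  constructor
  · intro h
    exact hT.mem_center_of_commute fun s hs => (congrArg Subtype.val (h ⟨s, hs⟩)).symm
  · intro h s
    exact Subtype.ext (Subgroup.mem_center_iff.mp h s)

theorem mk_eq_one_iff (hT : Ker T) {t : T} :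
    (t : T ⧸ Subgroup.center T) = 1 ↔ (t : G) ∈ Subgroup.center G := by
  rw [QuotientGroup.eq_one_iff, hT.mem_center_iff]

theorem exists_eq_mul_center (hT : Ker T) {a b : T}
    (h : (a : T ⧸ Subgroup.center T) = b) :
    ∃ z ∈ Subgroup.center G, z ∈ T ∧ (b : G) = a * z := by
  refine ⟨((a⁻¹ * b : T) : G), ?_, (a⁻¹ * b).2, by simp⟩
  exact hT.mem_center_iff.mp (QuotientGroup.eq.mp h)

theorem commute_of_mk_eq (hT : Ker T) {a b : T} {g : G}
    (h : (a : T ⧸ Subgroup.center T) = b) (hg : Commute g (a : G)) : Commute g (b : G) := by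
  obtain ⟨z, hz, -, e⟩ := hT.exists_eq_mul_center h
  rw [e]
  exact hg.mul_right (commute_center hz g)

/-- The component of an element of the quotient. -/
noncomputable def comp (q : T ⧸ Subgroup.center T) : Subgroup (T ⧸ Subgroup.center T) :=
  (Subgroup.centralizer ({q.out} : Set T)).map (QuotientGroup.mk' (Subgroup.center T))

theorem mk_mem_comp (hT : Ker T) {t b : T} :
    (t : T ⧸ Subgroup.center T) ∈ comp (b : T ⧸ Subgroup.center T) ↔ Commute (t : G) b := by
  set o := (b : T ⧸ Subgroup.center T).out with ho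
  have hob : (o : T ⧸ Subgroup.center T) = b := QuotientGroup.out_eq' _
  constructor
  · rintro ⟨c, hc, hct⟩
    have h1 : Commute (c : G) (o : G) :=
      (congrArg Subtype.val (mem_centralizer_iff_commute.mp hc).eq).symm
    have h2 : Commute (c : G) b := hT.commute_of_mk_eq hob h1
    exact (hT.commute_of_mk_eq hct h2.symm).symm
  · intro h
    refine ⟨t, mem_centralizer_iff_commute.mpr ?_, rfl⟩
    exact Subtype.ext (hT.commute_of_mk_eq hob.symm h).eq.symm

theorem exists_mk (q : T ⧸ Subgroup.center T) : ∃ t : T, (t : T ⧸ Subgroup.center T) = q :=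
  QuotientGroup.mk_surjective q

/-- The partition of the quotient by centralisers. -/
noncomputable def npart (hT : Ker T) : CfsgLib.Partition8.NPart (T ⧸ Subgroup.center T) where
  comp := comp
  mem_comp q _ := by
    obtain ⟨a, rfl⟩ := exists_mk q
    exact hT.mk_mem_comp.mpr (Commute.refl _)
  comp_eq q r hq hr hr1 := by
    obtain ⟨a, rfl⟩ := exists_mk q
    obtain ⟨b, rfl⟩ := exists_mk r
    have hac : Nc T (a : G) := ⟨a.2, fun h => hq (hT.mk_eq_one_iff.mpr h)⟩
    have hbc : Nc T (b : G) := ⟨b.2, fun h => hr1 (hT.mk_eq_one_iff.mpr h)⟩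
    have hba := hT.mk_mem_comp.mp hr
    ext s
    obtain ⟨t, rfl⟩ := exists_mk s
    rw [hT.mk_mem_comp, hT.mk_mem_comp]
    exact ⟨fun h => hT.trans t.2 hbc a.2 h hba, fun h => hT.trans t.2 hac b.2 h hba.symm⟩
  conj_mem g q r _ hr := by
    obtain ⟨g, rfl⟩ := exists_mk g
    obtain ⟨a, rfl⟩ := exists_mk q
    obtain ⟨b, rfl⟩ := exists_mk r
    rw [← QuotientGroup.mk_inv, ← QuotientGroup.mk_mul, ← QuotientGroup.mk_mul,
      ← QuotientGroup.mk_mul, ← QuotientGroup.mk_mul, hT.mk_mem_comp]
    simpa using commute_conj (g : G) (hT.mk_mem_comp.mp hr)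
  comp_ne_top q hq h := by
    obtain ⟨a, rfl⟩ := exists_mk q
    obtain ⟨t, ht, hat⟩ := hT.exists_not_commute_mem (fun hc => hq (hT.mk_eq_one_iff.mpr hc))
    have h1 : ((⟨t, ht⟩ : T) : T ⧸ Subgroup.center T) ∈ comp (a : T ⧸ Subgroup.center T) :=
      h.ge (Subgroup.mem_top _)
    exact hat (hT.mk_mem_comp.mp h1).symm

theorem npart_comp (hT : Ker T) (q : T ⧸ Subgroup.center T) : hT.npart.comp q = comp q := rfl

/-- Solvable normal subgroups of `T` are central. -/
theorem solvable_normal_le (hT : Ker T) {N : Subgroup T} (hN : N.Normal)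
    (hs : Group.IsSolvable N) : N ≤ Subgroup.center T := by
  haveI := hT.normal
  obtain ⟨R, hNR, hR⟩ := Finite.exists_le_maximal
    (p := fun K : Subgroup T => K.Normal ∧ Group.IsSolvable K) (a := N) ⟨hN, hs⟩
  obtain ⟨hRn, hRs⟩ := hR.prop
  have hnorm : (R.map T.subtype).Normal := by
    refine ⟨?_⟩
    rintro _ ⟨r, hr, rfl⟩ g
    set σ : T ≃* T := MulAut.conjNormal g with hσ
    haveI := hRn
    haveI hσn : (R.map σ.toMonoidHom).Normal :=
      Subgroup.Normal.map hRn σ.toMonoidHom σ.surjective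
    haveI := hRs
    have hσs : Group.IsSolvable (R.map σ.toMonoidHom) :=
      Group.isSolvable_of_surjective (σ.toMonoidHom.subgroupMap_surjective R)
    have hle : R.map σ.toMonoidHom ≤ R := by
      have h1 : R ⊔ R.map σ.toMonoidHom ≤ R :=
        hR.le_of_ge ⟨Subgroup.sup_normal _ _, CfsgLib.FrobSystem.solvable_sup hRs hσs⟩ le_sup_left
      exact le_sup_right.trans h1
    exact ⟨σ r, hle (Subgroup.mem_map_of_mem _ hr), by simp [hσ]⟩
  haveI := hRs
  have hsol : Group.IsSolvable (R.map T.subtype) :=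
    Group.isSolvable_of_surjective (T.subtype.subgroupMap_surjective R)
  intro n hn
  exact hT.mem_center_iff.mpr (hT.rad _ hnorm hsol (Subgroup.mem_map_of_mem _ (hNR hn)))

/-- The quotient has no nontrivial solvable normal subgroup. -/
theorem quot_solvable_normal (hT : Ker T) {N : Subgroup (T ⧸ Subgroup.center T)} (hN : N.Normal)
    (hs : Group.IsSolvable N) : N = ⊥ := by
  haveI := hN
  haveI := hs
  set π := QuotientGroup.mk' (Subgroup.center T) with hπ
  haveI : Group.IsSolvable (Subgroup.center T) :=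
    Group.isSolvable_of_comm fun a b => mul_comm' a b
  haveI : Group.IsSolvable (N.comap π) := by
    refine Group.isSolvable_of_ker_le_range
      (Subgroup.inclusion (show Subgroup.center T ≤ N.comap π from fun z hz => ?_))
      (π.subgroupComap N) fun z hz => ?_
    · rw [Subgroup.mem_comap, hπ, QuotientGroup.mk'_apply, (QuotientGroup.eq_one_iff z).mpr hz]
      exact one_mem N
    · exact ⟨⟨(z : T), (QuotientGroup.eq_one_iff (z : T)).mp (congrArg Subtype.val hz)⟩,
        Subtype.ext rfl⟩
  have hle := hT.solvable_normal_le (hN.comap π) inferInstance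
  rw [eq_bot_iff]
  intro q hq
  obtain ⟨t, rfl⟩ := exists_mk q
  exact Subgroup.mem_bot.mpr ((QuotientGroup.eq_one_iff t).mpr (hle (Subgroup.mem_comap.mpr hq)))

theorem quot_nontrivial (hT : Ker T) : Nontrivial (T ⧸ Subgroup.center T) := by
  obtain ⟨t, ht, htz⟩ := SetLike.not_le_iff_exists.mp hT.not_le
  exact ⟨⟨((⟨t, ht⟩ : T) : T ⧸ _), 1, fun h => htz (hT.mk_eq_one_iff.mp h)⟩⟩

theorem quot_perfect (hT : Ker T) : commutator (T ⧸ Subgroup.center T) = ⊤ := by
  have h1 : commutator T = ⊤ := by
    apply Subgroup.map_injective T.subtype_injective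
    rw [Subgroup.map_subtype_commutator, hT.perfect, ← MonoidHom.range_eq_map,
      Subgroup.range_subtype]
  rw [commutator_def] at h1 ⊢
  rw [← Subgroup.map_top_of_surjective _ (QuotientGroup.mk'_surjective (Subgroup.center T)),
    ← Subgroup.map_commutator, h1]

/-- The quotient is not a nilpotent group. -/
theorem quot_not_nilpotent (hT : Ker T) : ¬ Group.IsNilpotent (T ⧸ Subgroup.center T) := by
  intro hn
  haveI := hT.quot_nontrivial
  haveI : Group.IsSolvable (T ⧸ Subgroup.center T) := inferInstance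
  have := hT.quot_solvable_normal (N := ⊤) inferInstance inferInstance
  exact bot_ne_top this.symm

theorem quot_not_frobenius (hT : Ker T) {H : Subgroup (T ⧸ Subgroup.center T)}
    (hH : Cfsg.IsFrobeniusComplement H) : False := by
  obtain ⟨N, hN, hNn, hNnil⟩ :=
    CfsgLib.FPFNilpotent.frobenius_kernel_isNilpotent CfsgLib.FPFNilpotent.criterion H hH
  haveI := hNnil
  exact CfsgLib.Frobenius.kernel_ne_bot hH hN (hT.quot_solvable_normal hNn inferInstance)

/-- A proper noncentral subgroup of `T` containing `Z(T)` is not a self-normalising TI subgroup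
modulo the centre. -/
theorem false_of_ti (hT : Ker T) (B : Subgroup G)
    (hc : ∀ z ∈ Subgroup.center G, z ∈ T → z ∈ B) (hne : ∃ b ∈ B, Nc T b)
    (hproper : ∃ t ∈ T, t ∉ B)
    (hti : ∀ b ∈ B, Nc T b → ∀ t ∈ T, t * b * t⁻¹ ∈ B → t ∈ B) : False := by
  set π := QuotientGroup.mk' (Subgroup.center T) with hπ
  set Bq := (B.subgroupOf T).map π with hBq
  have hmem : ∀ t : T, π t ∈ Bq ↔ (t : G) ∈ B := by
    refine fun t => ⟨?_, fun h => ⟨t, h, rfl⟩⟩
    rintro ⟨c, hcB, hct⟩
    obtain ⟨z, hz, hzT, e⟩ := hT.exists_eq_mul_center hct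
    rw [e]
    exact mul_mem hcB (hc z hz hzT)
  refine hT.quot_not_frobenius (H := Bq) ⟨?_, ?_, ?_⟩
  · obtain ⟨b, hb, hbn⟩ := hne
    intro e
    exact hbn.2 (hT.mk_eq_one_iff.mp (Subgroup.mem_bot.mp (e ▸ (hmem ⟨b, hbn.1⟩).mpr hb)))
  · obtain ⟨t, ht, htB⟩ := hproper
    intro e
    exact htB ((hmem ⟨t, ht⟩).mp (e ▸ Subgroup.mem_top _))
  · intro g hg
    obtain ⟨t, rfl⟩ := exists_mk g
    rw [eq_bot_iff]
    rintro a ⟨ha, hag⟩
    rw [Subgroup.mem_bot]
    obtain ⟨b, hb, hba⟩ := hag
    obtain ⟨b', rfl⟩ := exists_mk b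
    by_contra ha1
    have hbn : Nc T (b' : G) := ⟨b'.2, fun h => ha1 (by
      rw [← hba, hT.mk_eq_one_iff.mpr h]; exact map_one _)⟩
    refine hg ((hmem t).mpr (hti _ ((hmem b').mp hb) hbn t t.2 ?_))
    have h1 : π (t * b' * t⁻¹) ∈ Bq := by
      rw [map_mul, map_mul, map_inv]
      rw [← hba] at ha
      simpa [hπ, MulAut.smul_def] using ha
    simpa using (hmem _).mp h1

/-- No component is self-normalising. -/
theorem exists_normalizer (hT : Ker T) {b : G} (hb : Nc T b) :
    ∃ n ∈ T, Nm b n ∧ ¬ Commute n b := by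
  by_contra hcon
  push Not at hcon
  obtain ⟨s, hs, hbs⟩ := hT.exists_not_commute_mem hb.2
  refine hT.false_of_ti (T ⊓ Subgroup.centralizer ({b} : Set G))
    (fun z hz hzT => ⟨hzT, mem_centralizer_iff_commute.mpr (commute_center hz b)⟩)
    ⟨b, ⟨hb.1, mem_centralizer_self b⟩, hb⟩
    ⟨s, hs, fun h => hbs (mem_centralizer_iff_commute.mp h.2)⟩ ?_
  intro c hc hcn t ht htc
  refine ⟨ht, mem_centralizer_iff_commute.mpr (hcon t ht ?_).symm⟩
  exact hT.trans (hT.conj_mem hb.1 t) (hT.nc_conj hcn t) hb.1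
    (commute_conj t (mem_centralizer_iff_commute.mp hc.2))
    (mem_centralizer_iff_commute.mp htc.2).symm

end Ker

end CfsgLib.MinNonCA98.Perfect
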