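import Mathlib
import Cfsg.Agent.MinNonCA98.Perfect.Quot

/-!
# Red elements of prime order modulo the centre, acting on a perfect normal subgroup

`Out T p y` : `y` is red and `y ^ p` is central.  Such a `y` centralises a nonabelian subgroup `B` of
`T`; a component meeting `B` outside the centre lies in `B`; and no noncentral `p`-element of `B`
has its component normalised by more elements of `B` than centralise it.
-/

set_option autoImplicit false
set_option linter.style.haveILetI false

namespace CfsgLib.MinNonCA98.Perfect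

universe u

variable {G : Type u} [Group G]

/-- A red element of order `p` modulo the centre. -/
structure Out (p : ℕ) (y : G) : Prop where
  red : Red y
  pow : y ^ p ∈ Subgroup.center G

/-- The component of `b` is normalised by an element of `T ∩ C(y)` not centralising `b`. -/
def Full (T : Subgroup G) (y b : G) : Prop :=
  ∃ n ∈ T, Commute y n ∧ Nm b n ∧ ¬ Commute n b

variable [Finite G]

/-- There is a red element of prime order modulo the centre. -/
theorem exists_out (h : MinNonCA G) : ∃ (p : ℕ) (y : G), p.Prime ∧ Out p y := by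
  obtain ⟨x, hx⟩ := h.exists_red
  have hex : ∃ k : ℕ, 0 < k ∧ x ^ k ∈ Subgroup.center G :=
    ⟨orderOf x, orderOf_pos x, by rw [pow_orderOf_eq_one]; exact one_mem _⟩
  classical
  obtain ⟨hk0, hkz⟩ := Nat.find_spec hex
  set k := Nat.find hex with hk
  have hk1 : k ≠ 1 := fun e => hx.1 (by simpa [e] using hkz)
  obtain ⟨p, hp, j, hj⟩ := Nat.exists_prime_and_dvd hk1
  have hj0 : 0 < j := Nat.pos_of_ne_zero fun e => by simp [e] at hj; omega
  have hjk : j < k := by
    rw [hj]; exact lt_mul_of_one_lt_left hj0 hp.one_lt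
  have hjz : x ^ j ∉ Subgroup.center G := fun hz => Nat.find_min hex hjk ⟨hj0, hz⟩
  refine ⟨p, x ^ j, hp, (hx.centralizer_eq h (fun y hy => hy.pow_left j) hjz).1, ?_⟩
  rw [← pow_mul, mul_comm, ← hj]
  exact hkz

namespace Ker

variable {T : Subgroup G}

theorem centralizer_not_normal (hT : Ker T) {p : ℕ} {y : G} (hy : Out p y) :
    ¬ (Subgroup.centralizer ({y} : Set G)).Normal := by
  intro hn
  obtain ⟨a, b, ha, hb, hab⟩ := hy.red.2
  have hMz : ¬ Subgroup.centralizer ({y} : Set G) ≤ Subgroup.center G := fun hle =>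
    hab (commute_center (hle (mem_centralizer_iff_commute.mpr hb)) a)
  exact hy.red.1 (centralizer_le_center hT.mn hT.rad _ hn hMz
    (Subgroup.mem_centralizer_iff.mpr fun m hm => (mem_centralizer_iff_commute.mp hm).eq.symm))

/-- An element fixing `y` modulo the centre fixes it. -/
theorem commute_of_twist (hT : Ker T) {p : ℕ} {y g : G} (hy : Out p y)
    (h : g * y * g⁻¹ * y⁻¹ ∈ Subgroup.center G) : Commute g y := by
  set z := g * y * g⁻¹ * y⁻¹ with hz
  have he : g * y * g⁻¹ = z * y := by rw [hz]; group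
  have key : ∀ m : G, Commute y (g * m * g⁻¹) ↔ Commute (g * y * g⁻¹) (g * m * g⁻¹) := fun m => by
    rw [he]
    constructor
    · exact fun hm => (commute_center h _).symm.mul_left hm
    · intro hm
      have h1 := (commute_center (inv_mem h) (g * m * g⁻¹)).symm.mul_left hm
      rwa [inv_mul_cancel_left] at h1
  have hmem : g ∈ Subgroup.normalizer ((Subgroup.centralizer ({y} : Set G)) : Set G) := by
    rw [Subgroup.mem_normalizer_iff]
    intro m
    rw [mem_centralizer_iff_commute, mem_centralizer_iff_commute]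
    constructor
    · exact fun hm => (key m).mpr (commute_conj g hm)
    · intro hm
      have h1 := commute_conj g⁻¹ ((key m).mp hm)
      rwa [show g⁻¹ * (g * y * g⁻¹) * g⁻¹⁻¹ = y by group,
        show g⁻¹ * (g * m * g⁻¹) * g⁻¹⁻¹ = m by group] at h1
  rw [hy.red.normalizer_eq hT.mn (hT.centralizer_not_normal hy)] at hmem
  exact (mem_centralizer_iff_commute.mp hmem).symm

/-- Conjugation by an element commuting with `y` preserves commuting with `y`. -/
theorem commute_conj_of_commute {y g c : G} (hg : Commute y g) (hc : Commute y c) :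
    Commute y (g * c * g⁻¹) := (hg.mul_right hc).mul_right hg.inv_right

/-- A red element of prime order modulo the centre centralises a nonabelian subgroup of `T`. -/
theorem exists_pair (hT : Ker T) {p : ℕ} (hp : p.Prime) {y : G} (hy : Out p y) :
    ∃ a ∈ T, ∃ b ∈ T, Commute y a ∧ Commute y b ∧ ¬ Commute a b := by
  by_contra hcon
  push Not at hcon
  haveI := hT.normal
  by_cases hz : ∀ b ∈ T, Commute y b → b ∈ Subgroup.center G
  · -- `y` acts without fixed points on the quotient
    have hmap : (Subgroup.center T).map (MulAut.conjNormal y : T ≃* T).toMonoidHom =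
        Subgroup.center T := Subgroup.characteristic_iff_map_eq.mp inferInstance _
    set φ : (T ⧸ Subgroup.center T) ≃* (T ⧸ Subgroup.center T) :=
      QuotientGroup.congr _ _ (MulAut.conjNormal y : T ≃* T) hmap with hφ
    have happ : ∀ t : T, φ (t : T ⧸ Subgroup.center T) =
        ((MulAut.conjNormal y : T ≃* T) t : T) := fun t => rfl
    have hfix : ∀ t : T, φ (t : T ⧸ Subgroup.center T) = t → (t : G) ∈ Subgroup.center G := by
      intro t ht
      rw [happ] at ht
      obtain ⟨z, hzc, -, e⟩ := hT.exists_eq_mul_center ht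
      rw [MulAut.conjNormal_apply] at e
      refine hz _ t.2 (hT.commute_of_twist hy (g := (t : G)) ?_).symm
      have h1 : (t : G) * y * (t : G)⁻¹ * y⁻¹ = (t : G) * (y * t * y⁻¹)⁻¹ := by group
      rw [h1]
      have h2 : y * (t : G) * y⁻¹ = (t : G) * z⁻¹ := eq_mul_inv_of_mul_eq e.symm
      rw [h2, mul_inv_rev, inv_inv, ← mul_assoc, (commute_center hzc _).eq, mul_inv_cancel_right]
      exact hzc
    have hord : orderOf φ = p := by
      haveI := Fact.mk hp
      refine orderOf_eq_prime ?_ ?_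
      · have hk : ∀ (k : ℕ) (t : T), (φ ^ k : MulAut _) (t : T ⧸ Subgroup.center T) =
            ((MulAut.conjNormal (y ^ k) : T ≃* T) t : T) := by
          intro k
          induction k with
          | zero => intro t; simp
          | succ k ih =>
            intro t
            rw [pow_succ, MulAut.mul_apply, happ, ih, pow_succ y, map_mul, MulAut.mul_apply]
        refine MulEquiv.ext fun q => ?_
        obtain ⟨t, rfl⟩ := exists_mk q
        rw [hk, MulAut.one_apply]
        congr 1
        refine Subtype.ext ?_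
        rw [MulAut.conjNormal_apply, (commute_center hy.pow (t : G)).symm.eq, mul_inv_cancel_right]
      · intro h1
        refine hT.not_le fun t ht => hfix ⟨t, ht⟩ ?_
        rw [h1]; rfl
    refine hT.quot_not_nilpotent (CfsgLib.FPFNilpotent.isNilpotent_of_fpf_automorphism
      CfsgLib.FPFNilpotent.criterion φ (fun q hq => ?_) p hp hord)
    obtain ⟨t, rfl⟩ := exists_mk q
    exact hT.mk_eq_one_iff.mpr (hfix t hq)
  · push Not at hz
    obtain ⟨b, hb, hyb, hbz⟩ := hz
    have hbn : Nc T b := ⟨hb, hbz⟩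
    set B : Subgroup G := T ⊓ Subgroup.centralizer ({y} : Set G) with hB
    have hBc : ∀ u ∈ B, ∀ v ∈ B, Commute u v := fun u hu v hv => hcon u hu.1 v hv.1
      (mem_centralizer_iff_commute.mp hu.2) (mem_centralizer_iff_commute.mp hv.2)
    have hnorm : Subgroup.normalizer (B : Set G) ≤ Subgroup.centralizer ({y} : Set G) := by
      have hle : Subgroup.centralizer ({y} : Set G) ≤ Subgroup.normalizer (B : Set G) := by
        intro g hg
        have hg' := mem_centralizer_iff_commute.mp hg
        rw [Subgroup.mem_normalizer_iff]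
        intro c
        constructor
        · exact fun hc => ⟨hT.conj_mem hc.1 g, mem_centralizer_iff_commute.mpr
            (commute_conj_of_commute hg' (mem_centralizer_iff_commute.mp hc.2))⟩
        · intro hc
          have h1 := hT.conj_mem hc.1 g⁻¹
          have h2 := commute_conj_of_commute hg'.inv_right (mem_centralizer_iff_commute.mp hc.2)
          rw [show g⁻¹ * (g * c * g⁻¹) * g⁻¹⁻¹ = c by group] at h1 h2
          exact ⟨h1, mem_centralizer_iff_commute.mpr h2⟩
      rcases (hy.red.isCoatom hT.mn).le_iff.mp hle with h1 | h1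
      · exfalso
        haveI : B.Normal := Subgroup.normalizer_eq_top_iff.mp h1
        exact hbz (hT.rad B inferInstance (Group.isSolvable_of_comm fun u v =>
          Subtype.ext (hBc u u.2 v v.2).eq) ⟨hb, mem_centralizer_iff_commute.mpr hyb⟩)
      · exact h1.le
    have hbB : b ∈ B := ⟨hb, mem_centralizer_iff_commute.mpr hyb⟩
    have hA : ∀ a ∈ T, Commute a b → a ∈ B := by
      intro a ha hab
      refine ⟨ha, hnorm ?_⟩
      rw [Subgroup.mem_normalizer_iff]
      intro c
      have hfixc : ∀ c ∈ B, a * c * a⁻¹ = c := fun c hc => by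
        rw [(hT.trans ha hbn hc.1 hab (hBc b hbB c hc)).eq, mul_inv_cancel_right]
      refine ⟨fun hc => (hfixc c hc).symm ▸ hc, fun hc => ?_⟩
      have h1 := hfixc _ hc
      have h2 : a * c * a⁻¹ = c :=
        mul_left_cancel (mul_right_cancel h1)
      exact h2 ▸ hc
    obtain ⟨n, hn, hnm, hnb⟩ := hT.exists_normalizer hbn
    have hconj : ∀ m ∈ T, Nm b m → ∀ c ∈ B, m * c * m⁻¹ ∈ B := fun m _ hm c hc =>
      hA _ (hT.conj_mem hc.1 m) (hT.commute_conj_of_nm hbn hm hc.1 (hBc b hbB c hc).symm)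
    have hnN : n ∈ Subgroup.normalizer (B : Set G) := by
      rw [Subgroup.mem_normalizer_iff]
      refine fun c => ⟨hconj n hn hnm c, fun hc => ?_⟩
      have h1 := hconj n⁻¹ (inv_mem hn) ((hT.nmSub hbn).inv_mem hnm) _ hc
      rwa [show n⁻¹ * (n * c * n⁻¹) * n⁻¹⁻¹ = c by group] at h1
    exact hnb (hBc n ⟨hn, hnorm hnN⟩ b hbB)

variable {p : ℕ} {y : G}

theorem not_mem (hT : Ker T) (hp : p.Prime) (hy : Out p y) : y ∉ T := by
  intro hyT
  obtain ⟨a, ha, b, hb, hya, hyb, hab⟩ := hT.exists_pair hp hy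
  exact hab (hT.trans ha ⟨hyT, hy.red.1⟩ hb hya.symm hyb)

/-- (L) The component of an element of `T ∩ C(y)` lies in `C(y)`. -/
theorem commute_component (hT : Ker T) {b a : G} (hb : Nc T b) (hyb : Commute y b) (ha : a ∈ T)
    (hab : Commute a b) : Commute y a := by
  obtain ⟨n, hn, hnm, hnb⟩ := hT.exists_normalizer hb
  exact hT.mn.commute_of_proper (hT.nmSub_ne_top hb) (show b ∈ hT.nmSub hb from nm_self b)
    (show n ∈ hT.nmSub hb from hnm) (fun h => hnb h.symm)
    (show y ∈ hT.nmSub hb from nm_of_commute hyb) (show a ∈ hT.nmSub hb from nm_of_commute hab)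
    hyb.symm hab.symm

/-- (N) The normaliser in `T` of a full component lies in `C(y)`. -/
theorem commute_of_full (hT : Ker T) (hy : Out p y) {b t : G} (hb : Nc T b) (hyb : Commute y b)
    (hf : Full T y b) (ht : Nm b t) : Commute y t := by
  obtain ⟨n, -, hyn, hnm, hnb⟩ := hf
  have hle := hy.red.le_centralizer hT.mn (hT.nmSub_ne_top hb)
    (show y ∈ hT.nmSub hb from nm_of_commute hyb) (show n ∈ hT.nmSub hb from hnm)
    (show b ∈ hT.nmSub hb from nm_self b) hyn hyb hnb
  exact mem_centralizer_iff_commute.mp (hle (show t ∈ hT.nmSub hb from ht))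

theorem twist_mem (hT : Ker T) {t : G} (ht : t ∈ T) (y : G) : t⁻¹ * y * t * y⁻¹ ∈ T := by
  rw [show t⁻¹ * y * t * y⁻¹ = t⁻¹ * (y * t * y⁻¹) by group]
  exact mul_mem (inv_mem ht) (hT.conj_mem ht y)

/-- (F) The twist of `y` by an element moving `b` inside `C(y)`. -/
theorem twist_facts (hT : Ker T) (hy : Out p y) {b t : G} (hb : Nc T b) (hyb : Commute y b)
    (ht : t ∈ T) (hyb' : Commute y (t * b * t⁻¹)) :
    Commute (t⁻¹ * y * t * y⁻¹) b ∧ Commute y (t⁻¹ * y * t * y⁻¹) ∧
      (t⁻¹ * y * t * y⁻¹) ^ p = 1 := by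
  set v := t⁻¹ * y * t * y⁻¹ with hv
  have hvb : Commute v b := by
    have h1 := commute_conj t⁻¹ hyb'
    rw [show t⁻¹ * (t * b * t⁻¹) * t⁻¹⁻¹ = b by group,
      show t⁻¹ * y * t⁻¹⁻¹ = v * y by rw [hv]; group] at h1
    have h2 := h1.mul_left hyb.inv_left
    rwa [mul_inv_cancel_right] at h2
  have hyv : Commute y v := hT.commute_component hb hyb (hT.twist_mem ht y) hvb
  refine ⟨hvb, hyv, ?_⟩
  have h3 : (v * y) ^ p = y ^ p := by
    rw [show v * y = t⁻¹ * y * t⁻¹⁻¹ by rw [hv]; group, conj_pow,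
      (commute_center hy.pow t⁻¹).eq, mul_inv_cancel_right]
  rw [hyv.symm.mul_pow] at h3
  exact mul_eq_right.mp h3

/-- A central twist means that `t` commutes with `y`. -/
theorem commute_of_twist_center (hT : Ker T) (hy : Out p y) {t : G}
    (h : t⁻¹ * y * t * y⁻¹ ∈ Subgroup.center G) : Commute t y := by
  have := hT.commute_of_twist hy (g := t⁻¹) (by rwa [inv_inv])
  simpa using this.inv_left

/-- Some component in `C(y)` is not full. -/
theorem exists_not_full (hT : Ker T) (hp : p.Prime) (hy : Out p y) :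
    ∃ b, Nc T b ∧ Commute y b ∧ ¬ Full T y b := by
  by_contra hcon
  push Not at hcon
  obtain ⟨a, ha, a', ha', hya, hya', haa'⟩ := hT.exists_pair hp hy
  have han : Nc T a := ⟨ha, fun hc => haa' (commute_center hc a').symm⟩
  obtain ⟨s, hs, hys⟩ := hT.exists_not_commute_mem hy.red.1
  refine hT.false_of_ti (T ⊓ Subgroup.centralizer ({y} : Set G))
    (fun z hz hzT => ⟨hzT, mem_centralizer_iff_commute.mpr (commute_center hz y)⟩)
    ⟨a, ⟨ha, mem_centralizer_iff_commute.mpr hya⟩, han⟩
    ⟨s, hs, fun h => hys (mem_centralizer_iff_commute.mp h.2)⟩ ?_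
  intro b hb hbn t ht htb
  refine ⟨ht, mem_centralizer_iff_commute.mpr ?_⟩
  have hyb := mem_centralizer_iff_commute.mp hb.2
  have hyb' := mem_centralizer_iff_commute.mp htb.2
  obtain ⟨n, hn, hnm, hnb⟩ := hT.exists_normalizer hbn
  have hyn : Commute y n := hT.commute_of_full hy hbn hyb (hcon b hbn hyb) hnm
  have hb'n : Nc T (t * b * t⁻¹) := hT.nc_conj hbn t
  have hnm' : Nm (t * b * t⁻¹) (t * n * t⁻¹) := by
    have := commute_conj t (show Commute (n * b * n⁻¹) b from hnm)
    rw [show t * (n * b * n⁻¹) * t⁻¹ = t * n * t⁻¹ * (t * b * t⁻¹) * (t * n * t⁻¹)⁻¹ by group]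
      at this
    exact this
  have hyn' : Commute y (t * n * t⁻¹) :=
    hT.commute_of_full hy hb'n hyb' (hcon _ hb'n hyb') hnm'
  obtain ⟨hvb, -, -⟩ := hT.twist_facts hy hbn hyb ht hyb'
  set v := t⁻¹ * y * t * y⁻¹ with hv
  have hvn : Commute v n := by
    have h1 := commute_conj t⁻¹ hyn'
    rw [show t⁻¹ * (t * n * t⁻¹) * t⁻¹⁻¹ = n by group,
      show t⁻¹ * y * t⁻¹⁻¹ = v * y by rw [hv]; group] at h1
    have h2 := h1.mul_left hyn.inv_left
    rwa [mul_inv_cancel_right] at h2
  by_cases hvz : v ∈ Subgroup.center G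
  · exact (hT.commute_of_twist_center hy hvz).symm
  · exact absurd (hT.trans hn ⟨hT.twist_mem ht y, hvz⟩ hb.1 hvn.symm hvb) hnb

/-- A component of `T ∩ C(y)` which is not full contains an element of order `p`. -/
theorem exists_order_p (hT : Ker T) (hy : Out p y) {b : G} (hb : Nc T b) (hyb : Commute y b)
    (hnf : ¬ Full T y b) :
    ∃ u, Nc T u ∧ Commute y u ∧ u ^ p = 1 ∧ Commute u b := by
  obtain ⟨n, hn, hnm, hnb⟩ := hT.exists_normalizer hb
  have hyb' : Commute y (n * b * n⁻¹) := hT.commute_component hb hyb (hT.conj_mem hb.1 n) hnm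
  obtain ⟨hvb, hyv, hvp⟩ := hT.twist_facts hy hb hyb hn hyb'
  refine ⟨_, ⟨hT.twist_mem hn y, fun hvz => hnf ⟨n, hn, ?_, hnm, hnb⟩⟩, hyv, hvp, hvb⟩
  exact (hT.commute_of_twist_center hy hvz).symm

/-- No component of a noncentral `p`-element of `T ∩ C(y)` is full. -/
theorem not_full (hT : Ker T) (hp : p.Prime) (hy : Out p y) {w : G} (hw : Nc T w)
    (hyw : Commute y w) {k : ℕ} (hwp : w ^ p ^ k = 1) : ¬ Full T y w := by
  haveI := Fact.mk hp
  obtain ⟨b, hb, hyb, hnf⟩ := hT.exists_not_full hp hy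
  obtain ⟨u, hu, hyu, hup, hub⟩ := hT.exists_order_p hy hb hyb hnf
  have hnfu : ∀ g ∈ T, Commute y g → Nm u g → Commute g u := by
    intro g hg hyg hgu
    have hgb : Nm b g := hT.trans (hT.conj_mem hb.1 g) hu hb.1
      (hT.commute_conj_of_nm hu hgu hb.1 hub.symm) hub
    have : Commute g b := by
      by_contra h
      exact hnf ⟨g, hg, hyg, hgb, h⟩
    exact hT.trans hg hb hu.1 this hub.symm
  set B : Subgroup G := T ⊓ Subgroup.centralizer ({y} : Set G) with hB
  set u₀ : B := ⟨u, hu.1, mem_centralizer_iff_commute.mpr hyu⟩ with hu₀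
  obtain ⟨P, hP⟩ := (IsPGroup.of_card (n := 1) (G := Subgroup.zpowers u₀) (p := p) (by
    rw [Nat.card_zpowers, pow_one]
    refine orderOf_eq_prime (Subtype.ext hup) fun e => hu.2 ?_
    rw [show u = ((u₀ : B) : G) from rfl, e]
    exact one_mem _)).exists_le_sylow
  have hu₀P : u₀ ∈ (P : Subgroup B) := hP (Subgroup.mem_zpowers _)
  have hall : ∀ g ∈ (P : Subgroup B), Commute (g : G) u := by
    haveI : Group.IsNilpotent (P : Subgroup B) := P.2.isNilpotent
    set R : Subgroup (P : Subgroup B) :=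
      Subgroup.centralizer ({(⟨u₀, hu₀P⟩ : (P : Subgroup B))} : Set (P : Subgroup B)) with hR
    have hRmem : ∀ g : (P : Subgroup B), g ∈ R ↔ Commute ((g : B) : G) u := fun g => by
      rw [hR, mem_centralizer_iff_commute]
      exact ⟨fun h => (congrArg (fun c : (P : Subgroup B) => ((c : B) : G)) h.eq).symm,
        fun h => Subtype.ext (Subtype.ext h.eq.symm)⟩
    intro g hg
    by_contra hgu
    have hlt : R < Subgroup.normalizer (R : Set (P : Subgroup B)) :=
      Group.normalizerCondition_of_isNilpotent R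
        (lt_top_iff_ne_top.mpr fun e => hgu ((hRmem ⟨g, hg⟩).mp (e ▸ Subgroup.mem_top _)))
    obtain ⟨m, hmN, hmR⟩ := SetLike.exists_of_lt hlt
    refine hmR ((hRmem m).mpr (hnfu _ (m : B).2.1 (mem_centralizer_iff_commute.mp (m : B).2.2) ?_))
    exact (hRmem _).mp ((Subgroup.mem_normalizer_iff.mp hmN ⟨u₀, hu₀P⟩).mp
      ((hRmem _).mpr (Commute.refl u)))
  set w₀ : B := ⟨w, hw.1, mem_centralizer_iff_commute.mpr hyw⟩ with hw₀
  obtain ⟨Q, hQ⟩ := (IsPGroup.exists_le_sylow (P := Subgroup.zpowers w₀) (p := p) (by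
    rintro ⟨g, i, rfl⟩
    refine ⟨k, Subtype.ext ?_⟩
    show (w₀ ^ i) ^ p ^ k = 1
    rw [← zpow_natCast, ← zpow_mul, mul_comm, zpow_mul, zpow_natCast,
      show w₀ ^ p ^ k = 1 from Subtype.ext hwp, one_zpow]))
  obtain ⟨g, hg⟩ := MulAction.exists_smul_eq B Q P
  have hwP : g * w₀ * g⁻¹ ∈ (P : Subgroup B) := by
    rw [← hg]
    exact ⟨w₀, hQ (Subgroup.mem_zpowers _), rfl⟩
  rintro ⟨n, hn, hyn, hnw, hnc⟩
  have hyg : Commute y (g : G) := mem_centralizer_iff_commute.mp g.2.2
  set w' := (g : G) * w * (g : G)⁻¹ with hw'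
  have hw'n : Nc T w' := hT.nc_conj hw g
  have hw'u : Commute w' u := hall _ hwP
  set n' := (g : G) * n * (g : G)⁻¹ with hn'
  have hn'w : Nm w' n' := by
    have := commute_conj (g : G) (show Commute (n * w * n⁻¹) w from hnw)
    rw [show (g : G) * (n * w * n⁻¹) * (g : G)⁻¹ = n' * w' * n'⁻¹ by rw [hn', hw']; group] at this
    exact this
  have hn'T : n' ∈ T := hT.conj_mem hn g
  have hn'u : Nm u n' := by
    have h1 : Commute (n' * u * n'⁻¹) w' := hT.commute_conj_of_nm hw'n hn'w hu.1 hw'u.symm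
    exact hT.trans (hT.conj_mem hu.1 n') hw'n hu.1 h1 hw'u
  have h2 : Commute n' w' := hT.trans hn'T hu hw'n.1
    (hnfu n' hn'T (commute_conj_of_commute hyg hyn) hn'u) hw'u.symm
  have h3 := commute_conj (g : G)⁻¹ h2
  rw [hn', hw', show (g : G)⁻¹ * ((g : G) * n * (g : G)⁻¹) * (g : G)⁻¹⁻¹ = n by group,
    show (g : G)⁻¹ * ((g : G) * w * (g : G)⁻¹) * (g : G)⁻¹⁻¹ = w by group] at h3
  exact hnc h3

end Ker

end CfsgLib.MinNonCA98.Perfect
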