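import Mathlib
import Cfsg.Agent.MinNonCA98.Perfect.Out

/-!
# Normalisers of components: the quotient by the component is a `p`-group

For `u` of order `p` in `T ∩ C(y)` every element of `T` normalising the component of `u` and having
a power prime to `p` in that component lies in it; in particular `p` is odd.
-/

set_option autoImplicit false
set_option linter.style.haveILetI false

namespace CfsgLib.MinNonCA98.Perfect

universe u

variable {G : Type u} [Group G] [Finite G]

namespace Ker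

variable {T : Subgroup G} {p : ℕ} {y u : G}

/-- An element of `T ∩ C(y)` normalising the component of `u` centralises `u`. -/
theorem commute_of_commute_nm (hT : Ker T) (hp : p.Prime) (hy : Out p y) (hu : Nc T u)
    (hyu : Commute y u) (hup : u ^ p = 1) {g : G} (hg : g ∈ T) (hyg : Commute y g) (hn : Nm u g) :
    Commute g u := by
  by_contra h
  exact hT.not_full hp hy hu hyu (k := 1) (by rwa [pow_one]) ⟨g, hg, hyg, hn, h⟩

theorem twist_facts_of_nm (hT : Ker T) (hy : Out p y) (hu : Nc T u) (hyu : Commute y u) {t : G}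
    (ht : t ∈ T) (hn : Nm u t) :
    Commute (t⁻¹ * y * t * y⁻¹) u ∧ Commute y (t⁻¹ * y * t * y⁻¹) ∧
      (t⁻¹ * y * t * y⁻¹) ^ p = 1 :=
  hT.twist_facts hy hu hyu ht (hT.commute_component hu hyu (hT.conj_mem hu.1 t) hn)

/-- An element normalising the component of `u` with a power prime to `p` in it lies in it. -/
theorem commute_of_pow (hT : Ker T) (hp : p.Prime) (hy : Out p y) (hu : Nc T u)
    (hyu : Commute y u) (hup : u ^ p = 1) {t : G} (ht : t ∈ T) (hn : Nm u t) {m : ℕ}
    (hm : ¬ p ∣ m) (htm : Commute (t ^ m) u) : Commute t u := by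
  set v : ℕ → G := fun i => (t ^ i)⁻¹ * y * t ^ i * y⁻¹ with hv
  set w : G := (v 1)⁻¹ with hw
  have hnm : ∀ i : ℕ, Nm u (t ^ i) := fun i => pow_mem (show t ∈ hT.nmSub hu from hn) i
  have hvf : ∀ i : ℕ, Commute (v i) u ∧ Commute y (v i) ∧ v i ^ p = 1 := fun i =>
    hT.twist_facts_of_nm hy hu hyu (pow_mem ht i) (hnm i)
  have hvT : ∀ i : ℕ, v i ∈ T := fun i => hT.twist_mem (pow_mem ht i) y
  have hvm : v m = 1 := by
    have h1 : Commute y (t ^ m) := hT.commute_component hu hyu (pow_mem ht m) htm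
    simp only [hv]
    rw [mul_assoc (t ^ m)⁻¹, h1.eq]
    group
  have hKcomm : ∀ a ∈ T, ∀ b ∈ T, Commute a u → Commute b u → Commute a b := fun a ha b hb h1 h2 =>
    hT.trans ha hu hb h1 h2.symm
  have hwp : w ^ p = 1 := by rw [hw, inv_pow, (hvf 1).2.2, inv_one]
  have hwu : Commute w u := (hvf 1).1.inv_left
  have hwT : w ∈ T := inv_mem (hvT 1)
  have hrec : ∀ i : ℕ, ∃ c ∈ T, Commute c u ∧ Commute y c ∧ c ^ p = 1 ∧
      t⁻¹ * c * t = c * v i * w ^ i := by
    intro i
    induction i with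
    | zero => exact ⟨1, one_mem T, Commute.one_left u, Commute.one_right y, one_pow p, by simp [hv]⟩
    | succ i ih =>
      obtain ⟨c, hcT, hcu, hyc, hcp, hce⟩ := ih
      obtain ⟨hiu, hiy, hip⟩ := hvf i
      refine ⟨c * v i, mul_mem hcT (hvT i), hcu.mul_left hiu, hyc.mul_right hiy, ?_, ?_⟩
      · rw [(hKcomm c hcT _ (hvT i) hcu hiu).mul_pow, hcp, hip, one_mul]
      · have h1 : t⁻¹ * v i * t = v (i + 1) * w := by
          simp only [hv, hw, pow_succ, pow_one]
          group
        have h2 : Commute (w ^ i) (v (i + 1)) :=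
          hKcomm _ (pow_mem hwT i) _ (hvT _) (hwu.pow_left i) (hvf _).1
        calc t⁻¹ * (c * v i) * t = (t⁻¹ * c * t) * (t⁻¹ * v i * t) := by group
          _ = c * v i * (w ^ i * v (i + 1)) * w := by rw [hce, h1]; group
          _ = c * v i * (v (i + 1) * (w ^ i * w)) := by rw [h2.eq]; group
          _ = c * v i * v (i + 1) * w ^ (i + 1) := by rw [← pow_succ, ← mul_assoc]
  obtain ⟨c, hcT, hcu, hyc, hcp, hce⟩ := hrec m
  rw [hvm, mul_one] at hce
  obtain ⟨k, hk⟩ := exists_pow_eq_self_of_coprime (x := w) (n := m)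
    (Nat.Coprime.coprime_dvd_right (orderOf_dvd_of_pow_eq_one hwp)
      ((hp.coprime_iff_not_dvd.mpr hm).symm))
  set d := c ^ k with hd
  have hde : t⁻¹ * d * t = d * w := by
    have h1 : t⁻¹ * d * t = (t⁻¹ * c * t) ^ k := by
      have := (conj_pow (i := k) (a := t⁻¹) (b := c)).symm
      rw [inv_inv] at this
      exact this
    rw [h1, hce, (hKcomm c hcT _ (pow_mem hwT m) hcu (hwu.pow_left m)).mul_pow, hk]
  set y' := d * y with hy'
  have hty' : Commute t y' := by
    have h1 : t⁻¹ * y * t = v 1 * y := by simp [hv]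
    have h2 : t⁻¹ * y' * t = y' := by
      calc t⁻¹ * y' * t = (t⁻¹ * d * t) * (t⁻¹ * y * t) := by rw [hy']; group
        _ = y' := by rw [hde, h1, hw, hy']; group
    calc t * y' = t * (t⁻¹ * y' * t) := by rw [h2]
      _ = y' * t := by group
  have hyd : Commute y d := hyc.pow_right k
  have hy'u : Commute y' u := (hcu.pow_left k).mul_left hyu
  have hy'p : y' ^ p ∈ Subgroup.center G := by
    rw [hy', hyd.symm.mul_pow, hd, ← pow_mul, mul_comm, pow_mul, hcp, one_pow, one_mul]
    exact hy.pow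
  have hy'z : y' ∉ Subgroup.center G := by
    intro hz
    obtain ⟨a, ha, b, hb, hya, hyb, hab⟩ := hT.exists_pair hp hy
    have hye : y = d⁻¹ * y' := by rw [hy', inv_mul_cancel_left]
    have hdz : d⁻¹ ∉ Subgroup.center G := fun h => hy.red.1 (hye ▸ mul_mem h hz)
    have key : ∀ g : G, Commute y g → Commute d⁻¹ g := fun g hg => by
      have h1 := hg.mul_left (commute_center hz g).symm.inv_left
      rwa [hye, mul_inv_cancel_right] at h1
    exact hab (hT.trans ha ⟨inv_mem (pow_mem hcT k), hdz⟩ hb (key a hya).symm (key b hyb))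
  by_contra htu
  have hout : Out p y' := ⟨⟨hy'z, t, u, hty'.symm, hy'u, htu⟩, hy'p⟩
  exact htu (hT.commute_of_commute_nm hp hout hu hy'u hup ht hty'.symm hn)

/-- The prime is odd. -/
theorem prime_ne_two (hT : Ker T) (hp : p.Prime) (hy : Out p y) (hu : Nc T u)
    (hyu : Commute y u) (hup : u ^ p = 1) : p ≠ 2 := by
  rintro rfl
  obtain ⟨n, hn, hnm, hnu⟩ := hT.exists_normalizer hu
  classical
  obtain ⟨e, m, hm, hne⟩ := Nat.exists_eq_two_pow_mul_odd (orderOf_pos n).ne'
  have hex : ∃ j : ℕ, Commute (n ^ 2 ^ j) u := by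
    refine ⟨e, hT.commute_of_pow hp hy hu hyu hup (pow_mem hn _)
      (pow_mem (show n ∈ hT.nmSub hu from hnm) _) (m := m) ?_ ?_⟩
    · exact hm.not_two_dvd_nat
    · rw [← pow_mul, ← hne, pow_orderOf_eq_one]
      exact Commute.one_left u
  obtain ⟨j, hj⟩ : ∃ j : ℕ, Nat.find hex = j + 1 := by
    refine ⟨Nat.find hex - 1, ?_⟩
    have : Nat.find hex ≠ 0 := fun h0 => hnu (by
      have := Nat.find_spec hex
      rwa [h0, pow_zero, pow_one] at this)
    omega
  set t := n ^ 2 ^ j with ht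
  have htu : ¬ Commute t u := Nat.find_min hex (by omega)
  have ht2 : Commute (t ^ 2) u := by
    have := Nat.find_spec hex
    rwa [hj, pow_succ, pow_mul] at this
  have htT : t ∈ T := pow_mem hn _
  have htn : Nm u t := pow_mem (show n ∈ hT.nmSub hu from hnm) _
  obtain ⟨hvu, hyv, hv2⟩ := hT.twist_facts_of_nm hy hu hyu htT htn
  set v := t⁻¹ * y * t * y⁻¹ with hv
  have hvz : v ∉ Subgroup.center G := fun h => htu
    (hT.commute_of_commute_nm hp hy hu hyu hup htT (hT.commute_of_twist_center hy h).symm htn)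
  have hyt : Commute y (t ^ 2) := hT.commute_component hu hyu (pow_mem htT 2) ht2
  have htv : Commute t v := by
    have h1 : t⁻¹ * v * t = v⁻¹ := by
      have h2 : (t ^ 2)⁻¹ * y * t ^ 2 = y := by rw [mul_assoc, hyt.eq]; group
      calc t⁻¹ * v * t = ((t ^ 2)⁻¹ * y * t ^ 2) * (t⁻¹ * y⁻¹ * t) := by
            rw [hv, sq]; group
        _ = v⁻¹ := by rw [h2, hv]; group
    rw [inv_eq_of_mul_eq_one_right (by rwa [← sq] : v * v = 1)] at h1
    calc t * v = t * (t⁻¹ * v * t) := by rw [h1]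
      _ = v * t := by group
  exact htu (hT.trans htT ⟨hT.twist_mem htT y, hvz⟩ hu.1 htv hvu)

/-- Elements normalising the component of `u` are separated by their twists of `y`. -/
theorem commute_of_twist_eq (hT : Ker T) (hp : p.Prime) (hy : Out p y) (hu : Nc T u)
    (hyu : Commute y u) (hup : u ^ p = 1) {g g' : G} (hg : g ∈ T) (hg' : g' ∈ T) (hn : Nm u g)
    (hn' : Nm u g')
    (he : g'⁻¹ * y * g' * y⁻¹ * (g⁻¹ * y * g * y⁻¹)⁻¹ ∈ Subgroup.center G) :
    Commute (g * g'⁻¹) u := by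
  refine hT.commute_of_commute_nm hp hy hu hyu hup (mul_mem hg (inv_mem hg'))
    (hT.commute_of_twist hy (g := g * g'⁻¹) ?_).symm
    (mul_mem (show g ∈ hT.nmSub hu from hn) (inv_mem (show g' ∈ hT.nmSub hu from hn')))
  set z := g'⁻¹ * y * g' * y⁻¹ * (g⁻¹ * y * g * y⁻¹)⁻¹ with hz
  have h1 : g'⁻¹ * y * g' = z * (g⁻¹ * y * g) := by rw [hz]; group
  have h2 : g * g'⁻¹ * y * (g * g'⁻¹)⁻¹ * y⁻¹ = g * (g'⁻¹ * y * g') * g⁻¹ * y⁻¹ := by group
  rw [h2, h1, ← mul_assoc g z, (commute_center he g).eq]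
  simpa [mul_assoc] using he

/-- The data used in the residual argument. -/
theorem exists_data (hT : Ker T) :
    ∃ (p : ℕ) (y u : G), p.Prime ∧ p ≠ 2 ∧ Out p y ∧ Nc T u ∧ Commute y u ∧ u ^ p = 1 := by
  obtain ⟨p, y, hp, hy⟩ := exists_out hT.mn
  obtain ⟨b, hb, hyb, hnf⟩ := hT.exists_not_full hp hy
  obtain ⟨u, hu, hyu, hup, -⟩ := hT.exists_order_p hy hb hyb hnf
  exact ⟨p, y, u, hp, hT.prime_ne_two hp hy hu hyu hup, hy, hu, hyu, hup⟩

end Ker

end CfsgLib.MinNonCA98.Perfect
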