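import Mathlib
import Cfsg.Agent.MinNonCA98.Perfect.Key
import Cfsg.Agent.SL2.Sylow
import Cfsg.Agent.SL2.Elements
import Cfsg.Agent.Psl2Cover.Elements
import Cfsg.Agent.PSL2.Sl2Unipotent

/-!
# The residual cases: cyclic Sylow `p`-subgroups, and `PSL(2, F)` in characteristic `p`
-/

set_option autoImplicit false
set_option linter.style.haveILetI false

namespace CfsgLib.MinNonCA98.Perfect

universe u

variable {G : Type u} [Group G] [Finite G]

namespace Ker

variable {T : Subgroup G} {p : ℕ} {y u : G}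

/-- A Sylow `p`-subgroup of the quotient is not cyclic. -/
theorem exists_sylow_not_cyclic (hT : Ker T) (hp : p.Prime) (hy : Out p y) (hu : Nc T u)
    (hyu : Commute y u) (hup : u ^ p = 1) :
    ∃ P : Sylow p (T ⧸ Subgroup.center T), ¬ IsCyclic (P : Subgroup (T ⧸ Subgroup.center T)) := by
  haveI := Fact.mk hp
  obtain ⟨n, hn, hnm, hnu⟩ := hT.exists_normalizer hu
  obtain ⟨a, m, hm, he⟩ :=
    Nat.exists_eq_pow_mul_and_not_dvd (orderOf_pos n).ne' p hp.ne_one
  set t := n ^ m with ht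
  have htu : ¬ Commute t u := fun h => hnu (hT.commute_of_pow hp hy hu hyu hup hn hnm hm h)
  have htnm : Nm u t := pow_mem (show n ∈ hT.nmSub hu from hnm) m
  have htp : t ^ p ^ a = 1 := by rw [ht, ← pow_mul, mul_comm, ← he, pow_orderOf_eq_one]
  set u₀ : T ⧸ Subgroup.center T := ((⟨u, hu.1⟩ : T) : T ⧸ Subgroup.center T) with hu₀
  set t₀ : T ⧸ Subgroup.center T := ((⟨t, pow_mem hn m⟩ : T) : T ⧸ Subgroup.center T) with ht₀
  have hu₀1 : u₀ ≠ 1 := fun h => hu.2 (hT.mk_eq_one_iff.mp h)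
  have hu₀p : u₀ ^ p = 1 := by
    rw [hu₀, ← QuotientGroup.mk_pow, show (⟨u, hu.1⟩ : T) ^ p = 1 from Subtype.ext hup,
      QuotientGroup.mk_one]
  have hcm : ∀ q ∈ comp u₀, ∀ r ∈ comp u₀, Commute q r := by
    intro q hq r hr
    obtain ⟨s, rfl⟩ := exists_mk q
    obtain ⟨s', rfl⟩ := exists_mk r
    have h1 : Commute (s : G) s' :=
      hT.trans s.2 hu s'.2 (hT.mk_mem_comp.mp hq) (hT.mk_mem_comp.mp hr).symm
    have h2 : Commute s s' := Subtype.ext h1.eq
    exact h2.map (QuotientGroup.mk' (Subgroup.center T))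
  let R : Subgroup (T ⧸ Subgroup.center T) :=
    { carrier := {q | q ∈ comp u₀ ∧ q ^ p = 1}
      one_mem' := ⟨one_mem _, one_pow p⟩
      mul_mem' := fun {q r} hq hr =>
        ⟨mul_mem hq.1 hr.1, by rw [(hcm q hq.1 r hr.1).mul_pow, hq.2, hr.2, one_mul]⟩
      inv_mem' := fun {q} hq => ⟨inv_mem hq.1, by rw [inv_pow, hq.2, inv_one]⟩ }
  have hRp : IsPGroup p R := fun r => ⟨1, Subtype.ext (by simpa using r.2.2)⟩
  have htc : ∀ (x : T), Nm u x → ∀ q ∈ comp u₀,
      (x : T ⧸ Subgroup.center T) * q * (x : T ⧸ Subgroup.center T)⁻¹ ∈ comp u₀ := by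
    intro x hx q hq
    obtain ⟨s, rfl⟩ := exists_mk q
    rw [← QuotientGroup.mk_inv, ← QuotientGroup.mk_mul, ← QuotientGroup.mk_mul, hu₀, hT.mk_mem_comp]
    simpa using hT.commute_conj_of_nm hu hx s.2 (hT.mk_mem_comp.mp hq)
  have htN : Subgroup.zpowers t₀ ≤ Subgroup.normalizer (R : Set (T ⧸ Subgroup.center T)) := by
    rw [Subgroup.zpowers_le, Subgroup.mem_normalizer_iff]
    refine fun q => ⟨fun hq => ⟨htc _ htnm q hq.1, by rw [conj_pow, hq.2]; group⟩, fun hq => ?_⟩
    refine ⟨?_, ?_⟩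
    · have h1 := htc ⟨t, pow_mem hn m⟩⁻¹ ((hT.nmSub hu).inv_mem htnm) _ hq.1
      rw [QuotientGroup.mk_inv, ← ht₀,
        show t₀⁻¹ * (t₀ * q * t₀⁻¹) * t₀⁻¹⁻¹ = q by group] at h1
      exact h1
    · have h1 : (t₀ * q * t₀⁻¹) ^ p = 1 := hq.2
      rwa [conj_pow, conj_eq_one_iff] at h1
  have htZ : IsPGroup p (Subgroup.zpowers t₀) := by
    rintro ⟨g, i, rfl⟩
    refine ⟨a, Subtype.ext ?_⟩
    show (t₀ ^ i) ^ p ^ a = 1
    rw [← zpow_natCast, ← zpow_mul, mul_comm, zpow_mul, zpow_natCast, ht₀, ← QuotientGroup.mk_pow,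
      show (⟨t, pow_mem hn m⟩ : T) ^ p ^ a = 1 from Subtype.ext htp, QuotientGroup.mk_one,
      one_zpow]
  obtain ⟨P, hP⟩ := (htZ.to_sup_of_normal_right' hRp htN).exists_le_sylow
  refine ⟨P, fun hc => htu ?_⟩
  obtain ⟨g, hg⟩ := hc.exists_generator
  have hmem : ∀ q ∈ (P : Subgroup _), q ∈ Subgroup.zpowers (g : T ⧸ Subgroup.center T) :=
    fun q hq => by
      obtain ⟨i, hi⟩ := hg ⟨q, hq⟩
      exact ⟨i, congrArg Subtype.val hi⟩
  have hu₀R : u₀ ∈ R := ⟨hT.mk_mem_comp.mpr (Commute.refl u), hu₀p⟩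
  have hu₀g := hmem u₀ (hP (Subgroup.mem_sup_right hu₀R))
  have hg1 : (g : T ⧸ Subgroup.center T) ≠ 1 := fun e => hu₀1 (by
    rw [e, Subgroup.zpowers_one_eq_bot] at hu₀g
    exact Subgroup.mem_bot.mp hu₀g)
  have hgc : Subgroup.zpowers (g : T ⧸ Subgroup.center T) ≤ hT.npart.comp (g : T ⧸ _) :=
    Subgroup.zpowers_le.mpr (hT.npart.mem_comp _ hg1)
  have hce := hT.npart.comp_eq _ u₀ hg1 (hgc hu₀g) hu₀1
  have ht₀c : t₀ ∈ hT.npart.comp u₀ := by
    rw [hce]
    exact hgc (hmem t₀ (hP (Subgroup.mem_sup_left (Subgroup.mem_zpowers t₀))))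
  exact hT.mk_mem_comp.mp ht₀c

open CfsgLib.SL2 CfsgLib.Psl2Cover in
/-- The quotient is not `PSL(2, F)` with `F` of characteristic `p`. -/
theorem not_psl_char (hT : Ker T) (hp : p.Prime) (hp2 : p ≠ 2) (hy : Out p y) (hu : Nc T u)
    (hyu : Commute y u) (hup : u ^ p = 1) {F : Type} [Field F] [Fintype F] [CharP F p]
    (hF : 4 ≤ Fintype.card F)
    (e₀ : (T ⧸ Subgroup.center T) ≃* Matrix.ProjectiveSpecialLinearGroup (Fin 2) F) : False := by
  haveI := Fact.mk hp
  have h2 : (2 : F) ≠ 0 := by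
    intro h
    have : ((2 : ℕ) : F) = 0 := by simpa using h
    exact hp2 ((Nat.prime_dvd_prime_iff_eq hp Nat.prime_two).mp
      ((CharP.cast_eq_zero_iff F p 2).mp this))
  set u₀ : T ⧸ Subgroup.center T := ((⟨u, hu.1⟩ : T) : T ⧸ Subgroup.center T) with hu₀
  have hu₀1 : u₀ ≠ 1 := fun h => hu.2 (hT.mk_eq_one_iff.mp h)
  have hu₀p : u₀ ^ p = 1 := by
    rw [hu₀, ← QuotientGroup.mk_pow, show (⟨u, hu.1⟩ : T) ^ p = 1 from Subtype.ext hup,
      QuotientGroup.mk_one]
  -- normalise the image of `u`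
  obtain ⟨g₁, hg₁⟩ := proj_surjective (e₀ u₀)
  obtain ⟨g₀, hg₀, hg₀p⟩ : ∃ g₀, proj g₀ = e₀ u₀ ∧ g₀ ^ p = 1 := by
    have h1 : g₁ ^ p ∈ Subgroup.center (Matrix.SpecialLinearGroup (Fin 2) F) := by
      rw [← proj_eq_one_iff, map_pow, hg₁, ← map_pow, hu₀p, map_one]
    rcases mem_center_iff'.1 h1 with h | h
    · exact ⟨g₁, hg₁, h⟩
    · refine ⟨-g₁, by rw [proj_neg, hg₁], ?_⟩
      rw [(hp.eq_two_or_odd'.resolve_left hp2).neg_pow, h, neg_neg]
  obtain ⟨c, hc0, hcc⟩ := CfsgLib.Psl2Unipotent.exists_isConj_upperU g₀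
    (orderOf_eq_prime hg₀p fun h => hu₀1 (e₀.injective (by rw [← hg₀, h, map_one, map_one])))
  obtain ⟨k, hk⟩ := isConj_iff.1 hcc
  set e := e₀.trans (MulAut.conj (proj k)) with he
  have heu : e u₀ = proj (SL2.u c) := by
    rw [he, MulEquiv.trans_apply, ← hg₀, MulAut.conj_apply, ← map_inv, ← map_mul, ← map_mul, hk,
      u_eq_upperU]
  -- the unipotent subgroup
  set f : Multiplicative F →* (T ⧸ Subgroup.center T) :=
    e.symm.toMonoidHom.comp (proj.comp uHom) with hf
  have hfs : ∀ s : F, f (Multiplicative.ofAdd s) = e.symm (proj (SL2.u s)) := fun s => rfl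
  have hfc : f (Multiplicative.ofAdd c) = u₀ := by rw [hfs, ← heu, MulEquiv.symm_apply_apply]
  have hfinj : ∀ x, f x = 1 → x = 1 := by
    intro x hx
    have h1 : proj (SL2.u (Multiplicative.toAdd x)) = 1 := by
      have := hfs (Multiplicative.toAdd x)
      rw [ofAdd_toAdd, hx] at this
      exact (MulEquiv.symm_apply_eq e).mp this.symm |>.trans (map_one e)
    rcases mem_center_iff'.1 (proj_eq_one_iff.1 h1) with h | h
    · rw [← u_zero] at h
      exact Multiplicative.toAdd.injective (u_injective h)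
    · exfalso
      apply h2
      have := congrArg (fun z : Matrix.SpecialLinearGroup (Fin 2) F => z 0 0) h
      simp at this
      linear_combination this
  have hcent : ∀ q, Commute q u₀ → ∃ s : F, f (Multiplicative.ofAdd s) = q := by
    intro q hq
    obtain ⟨g, hg⟩ := proj_surjective (e q)
    have h1 : proj (g * SL2.u c * g⁻¹) = proj (SL2.u c) := by
      have := hq.map e.toMonoidHom
      simp only [MulEquiv.coe_toMonoidHom, heu, ← hg] at this
      rw [map_mul, map_mul, map_inv, this.eq, mul_inv_cancel_right]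
    have h3 : g * SL2.u c * g⁻¹ = SL2.u c := by
      rcases proj_eq_iff.1 h1 with h | h
      · exact h
      · exfalso
        have h4 := tr_conj (SL2.u c) g
        rw [h, tr_neg, tr_u] at h4
        exact h2 (mul_self_eq_zero.mp (by linear_combination -h4))
    have h5 : g ∈ Subgroup.centralizer ({CfsgLib.Psl2Unipotent.upperU c} :
        Set (Matrix.SpecialLinearGroup (Fin 2) F)) := by
      rw [Subgroup.mem_centralizer_singleton_iff, ← u_eq_upperU]
      exact mul_inv_eq_iff_eq_mul.1 h3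
    obtain ⟨h10, hd⟩ := (CfsgLib.Psl2Unipotent.mem_centralizer_upperU hc0 g).1 h5
    have hsq : g 0 0 * g 0 0 = 1 := by
      have := det_eq g
      rw [h10, mul_zero, sub_zero, ← hd] at this
      exact this
    rcases mul_self_eq_one_iff.1 hsq with h | h
    · refine ⟨g 0 1, ?_⟩
      rw [hfs, MulEquiv.symm_apply_eq, ← hg]
      congr 1
      apply ext4 <;> simp [h10, h, ← hd]
    · refine ⟨-(g 0 1), ?_⟩
      rw [hfs, MulEquiv.symm_apply_eq, ← hg, ← proj_neg g]
      congr 1
      apply ext4 <;> simp [h10, h, ← hd]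
  set W : Subgroup (Multiplicative F) := (comp u₀).comap f with hW
  have hWmem : ∀ (x : Multiplicative F) (s : T), f x = (s : T ⧸ Subgroup.center T) →
      (x ∈ W ↔ Commute (s : G) u) := fun x s hs => by
    rw [hW, Subgroup.mem_comap, hs, hu₀, hT.mk_mem_comp]
  choose σ hσ using fun x : Multiplicative F => exists_mk (f x)
  have hσn : ∀ x, Nm u (σ x) := by
    intro x
    have h1 : Commute (σ x : T ⧸ Subgroup.center T) u₀ := by
      rw [hσ, ← hfc]
      exact (Commute.all x (Multiplicative.ofAdd c)).map f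
    have h2 : ((σ x * ⟨u, hu.1⟩ * (σ x)⁻¹ : T) : T ⧸ Subgroup.center T) = u₀ := by
      rw [QuotientGroup.mk_mul, QuotientGroup.mk_mul, QuotientGroup.mk_inv, ← hu₀, h1.eq,
        mul_inv_cancel_right]
    have h3 : Commute u ((σ x : G) * u * (σ x : G)⁻¹) := by
      simpa using hT.commute_of_mk_eq h2.symm (Commute.refl u)
    exact h3.symm
  have hphi : ∀ x : Multiplicative F, ∃ w : W,
      f w = ((⟨(σ x : G)⁻¹ * y * σ x * y⁻¹, hT.twist_mem (σ x).2 y⟩ : T) : T ⧸ _) := by
    intro x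
    set v : T := ⟨(σ x : G)⁻¹ * y * σ x * y⁻¹, hT.twist_mem (σ x).2 y⟩ with hv
    have hvu : Commute (v : G) u := (hT.twist_facts_of_nm hy hu hyu (σ x).2 (hσn x)).1
    have h1 : Commute v ⟨u, hu.1⟩ := Subtype.ext hvu.eq
    obtain ⟨s, hs⟩ := hcent _ (h1.map (QuotientGroup.mk' (Subgroup.center T)))
    exact ⟨⟨Multiplicative.ofAdd s, (hWmem _ v hs).mpr hvu⟩, hs⟩
  choose φ hφ using hphi
  have hidx : W.index ≤ Nat.card W := by
    rw [Subgroup.index_eq_card]
    refine Nat.card_le_card_of_injective (fun X : Multiplicative F ⧸ W => φ X.out) ?_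
    intro X Y hXY
    have h1 := (hφ X.out).symm.trans ((congrArg (fun w : W => f w) hXY).trans (hφ Y.out))
    obtain ⟨z, hz, -, hze⟩ := hT.exists_eq_mul_center h1
    have h3 := hT.commute_of_twist_eq hp hy hu hyu hup (σ X.out).2 (σ Y.out).2 (hσn _) (hσn _) (by
      simp only at hze
      rw [hze, (commute_center hz _).eq, mul_inv_cancel_right]
      exact hz)
    have h4 : X.out * Y.out⁻¹ ∈ W := (hWmem _ (σ X.out * (σ Y.out)⁻¹) (by
      rw [map_mul, map_inv, QuotientGroup.mk_mul, QuotientGroup.mk_inv, hσ, hσ])).mpr h3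
    rw [← QuotientGroup.out_eq' X, ← QuotientGroup.out_eq' Y, QuotientGroup.eq]
    have h5 : X.out⁻¹ * Y.out = (X.out * Y.out⁻¹)⁻¹ := by rw [mul_inv_rev, inv_inv, mul_comm]
    rw [h5]
    exact inv_mem h4
  have hcard : Fintype.card F ≤ Nat.card W * Nat.card W := by
    calc Fintype.card F = Nat.card (Multiplicative F) := by
          rw [Nat.card_congr Multiplicative.toAdd, Nat.card_eq_fintype_card]
      _ = Nat.card W * W.index := (Subgroup.card_mul_index W).symm
      _ ≤ Nat.card W * Nat.card W := Nat.mul_le_mul_left _ hidx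
  have hcW : Multiplicative.ofAdd c ∈ W :=
    (hWmem _ ⟨u, hu.1⟩ (by rw [hfc])).mpr (Commute.refl u)
  have hpq : ¬ p ∣ Fintype.card F - 1 := by
    obtain ⟨n, -, hn⟩ := FiniteField.card F p
    intro h
    have h1 : p ∣ Fintype.card F := by rw [hn]; exact dvd_pow_self p n.pos.ne'
    have h3 := Nat.dvd_sub h1 h
    rw [Nat.sub_sub_self (by omega : 1 ≤ Fintype.card F)] at h3
    exact hp.one_lt.ne' (Nat.dvd_one.1 h3)
  have torus : ∀ (a : Fˣ) (s : F), (a : F) ^ 2 ≠ 1 → s ≠ 0 → Multiplicative.ofAdd s ∈ W →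
      Multiplicative.ofAdd ((a : F) ^ 2 * s) ∉ W := by
    intro a s ha hs hsW hasW
    obtain ⟨τ, hτ⟩ := exists_mk (e.symm (proj (SL2.d a)))
    have hnz : ∀ r : F, r ≠ 0 → (σ (Multiplicative.ofAdd r) : G) ∉ Subgroup.center G := fun r hr h =>
      hr (ofAdd_eq_one.mp (hfinj _ ((hσ _).symm.trans (hT.mk_eq_one_iff.mpr h))))
    have hk0 := (hWmem _ _ (hσ (Multiplicative.ofAdd s)).symm).mp hsW
    have hk1 : Commute ((τ : G) * σ (Multiplicative.ofAdd s) * (τ : G)⁻¹) u := by
      have h1 : f (Multiplicative.ofAdd ((a : F) ^ 2 * s)) =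
          ((τ * σ (Multiplicative.ofAdd s) * τ⁻¹ : T) : T ⧸ Subgroup.center T) := by
        rw [QuotientGroup.mk_mul, QuotientGroup.mk_mul, QuotientGroup.mk_inv, hτ, hσ, hfs, hfs,
          ← map_inv, ← map_mul, ← map_mul, ← map_inv, ← map_mul, ← map_mul, d_conj_u]
      simpa using (hWmem _ _ h1).mp hasW
    have hτn : Nm u (τ : G) :=
      hT.trans (hT.conj_mem hu.1 τ) (hT.nc_conj ⟨(σ _).2, hnz s hs⟩ τ) hu.1
        (commute_conj (τ : G) hk0).symm hk1
    have hτq : Commute ((τ : G) ^ (Fintype.card F - 1)) u := by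
      have h1 : (τ : T ⧸ Subgroup.center T) ^ (Fintype.card F - 1) = 1 := by
        rw [hτ, ← map_pow, ← map_pow, ← map_pow]
        have h3 : a ^ (Fintype.card F - 1) = 1 :=
          Units.ext (by
            rw [Units.val_pow_eq_pow_val, Units.val_one]
            exact FiniteField.pow_card_sub_one_eq_one (a : F) a.ne_zero)
        rw [h3, map_one, map_one, map_one]
      rw [← QuotientGroup.mk_pow] at h1
      have h2 := hT.mk_eq_one_iff.mp h1
      rw [Subgroup.coe_pow] at h2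
      exact (commute_center h2 u).symm
    have hτu := hT.commute_of_pow hp hy hu hyu hup τ.2 hτn hpq hτq
    obtain ⟨r, hr⟩ := hcent (τ : T ⧸ Subgroup.center T)
      ((show Commute τ ⟨u, hu.1⟩ from Subtype.ext hτu.eq).map (QuotientGroup.mk' _))
    rw [hτ, hfs] at hr
    rcases proj_eq_iff.1 (e.symm.injective hr) with h | h
    · have h00 := congrArg (fun z : Matrix.SpecialLinearGroup (Fin 2) F => z 0 0) h
      simp at h00
      exact ha (by rw [← h00, one_pow])
    · have h00 := congrArg (fun z : Matrix.SpecialLinearGroup (Fin 2) F => z 0 0) h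
      simp at h00
      exact ha (by linear_combination ((a : F) - 1) * h00)
  by_cases hsq : IsSquare (-1 : F)
  · obtain ⟨i, hi⟩ := hsq
    have hi0 : i ≠ 0 := by rintro rfl; simp at hi
    refine torus (Units.mk0 i hi0) c ?_ hc0 hcW ?_
    · rw [Units.val_mk0, pow_two, ← hi]
      intro h
      exact h2 (by linear_combination -h)
    · rw [Units.val_mk0, pow_two, ← hi, neg_one_mul, ofAdd_neg]
      exact inv_mem hcW
  · classical
    have hlt : Fintype.card F < Nat.card W * Nat.card W := by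
      refine lt_of_le_of_ne hcard fun h => hsq (FiniteField.isSquare_neg_one_iff.mpr ?_)
      have h1 := Nat.mod_lt (Nat.card W) (show 0 < 4 by norm_num)
      rw [h, Nat.mul_mod]
      interval_cases (Nat.card W % 4) <;> norm_num
    obtain ⟨a, -, ha⟩ : ∃ a ∈ (Finset.univ : Finset F), a ∉ ({0, 1, -1} : Finset F) :=
      Finset.exists_mem_notMem_of_card_lt_card (by
        have := Finset.card_le_three (a := (0 : F)) (b := 1) (c := -1)
        rw [Finset.card_univ]
        omega)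
    simp only [Finset.mem_insert, Finset.mem_singleton, not_or] at ha
    obtain ⟨ha0, ha1, ha2⟩ := ha
    obtain ⟨x, x', hne, hxx⟩ : ∃ x x' : W × W, x ≠ x' ∧
        a ^ 2 * Multiplicative.toAdd (x.1 : Multiplicative F) -
          Multiplicative.toAdd (x.2 : Multiplicative F) =
        a ^ 2 * Multiplicative.toAdd (x'.1 : Multiplicative F) -
          Multiplicative.toAdd (x'.2 : Multiplicative F) := by
      by_contra hcon
      push Not at hcon
      have := Nat.card_le_card_of_injective (fun x : W × W =>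
        a ^ 2 * Multiplicative.toAdd (x.1 : Multiplicative F) -
          Multiplicative.toAdd (x.2 : Multiplicative F)) fun x x' h => by
            by_contra hne
            exact hcon x x' hne h
      rw [Nat.card_prod, Nat.card_eq_fintype_card (α := F)] at this
      omega
    set s := Multiplicative.toAdd (x.1 : Multiplicative F) -
      Multiplicative.toAdd (x'.1 : Multiplicative F) with hs
    have hs0 : s ≠ 0 := by
      intro h
      rw [hs, sub_eq_zero] at h
      rw [h] at hxx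
      exact hne (Prod.ext (Subtype.ext (Multiplicative.toAdd.injective h))
        (Subtype.ext (Multiplicative.toAdd.injective (sub_right_inj.mp hxx))))
    refine torus (Units.mk0 a ha0) s ?_ hs0 ?_ ?_
    · rw [Units.val_mk0, sq, Ne, mul_self_eq_one_iff]
      tauto
    · rw [hs, ofAdd_sub, ofAdd_toAdd, ofAdd_toAdd]
      exact div_mem x.1.2 x'.1.2
    · rw [Units.val_mk0, show a ^ 2 * s = Multiplicative.toAdd (x.2 : Multiplicative F) -
        Multiplicative.toAdd (x'.2 : Multiplicative F) by rw [hs]; linear_combination hxx,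
        ofAdd_sub, ofAdd_toAdd, ofAdd_toAdd]
      exact div_mem x.2.2 x'.2.2

end Ker

end CfsgLib.MinNonCA98.Perfect
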