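import Mathlib
import Cfsg.Agent.MinNonCA98.Interfaces
import Cfsg.Agent.MinNonCA98.Perfect.Residual
import Cfsg.Agent.Partition8.Main
import Cfsg.Agent.Suzuki.Partition
import Cfsg.Agent.Suzuki.LieModel

/-!
# Piece B: a minimal non-CA group is perfect and simple modulo its centre
-/

set_option autoImplicit false
set_option linter.style.haveILetI false

namespace CfsgLib.MinNonCA98

universe u

namespace Perfect

/-- A homomorphism from a perfect group to an abelian group is trivial. -/
theorem hom_eq_one_of_perfect {K A : Type*} [Group K] [CommGroup A] (h : commutator K = ⊤)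
    (f : K →* A) (k : K) : f k = 1 :=
  MonoidHom.mem_ker.mp (Abelianization.commutator_subset_ker f (h.ge (Subgroup.mem_top k)))

theorem not_sym_four {K : Type*} [Group K] (h : commutator K = ⊤) (e : K ≃* Equiv.Perm (Fin 4)) :
    False := by
  have h1 := hom_eq_one_of_perfect h ((Equiv.Perm.sign (α := Fin 4)).comp e.toMonoidHom)
    (e.symm (Equiv.swap 0 1))
  rw [MonoidHom.comp_apply, MulEquiv.coe_toMonoidHom, MulEquiv.apply_symm_apply,
    Equiv.Perm.sign_swap (by decide)] at h1
  exact absurd h1 (by decide)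

theorem not_pgl {K : Type*} [Group K] (h : commutator K = ⊤) {F : Type} [Field F] [Fintype F]
    (hodd : Odd (Fintype.card F)) (e : K ≃* (GL (Fin 2) F ⧸ Subgroup.center (GL (Fin 2) F))) :
    False := by
  obtain ⟨a, ha⟩ := FiniteField.exists_nonsquare (F := F) (fun h2 => by
    have := FiniteField.even_card_of_char_two h2
    rw [Nat.odd_iff] at hodd
    omega)
  set sq : Subgroup Fˣ := (powMonoidHom 2 : Fˣ →* Fˣ).range with hsq
  set δ : GL (Fin 2) F →* Fˣ ⧸ sq :=
    (QuotientGroup.mk' sq).comp Matrix.GeneralLinearGroup.det with hδ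
  have hker : Subgroup.center (GL (Fin 2) F) ≤ δ.ker := by
    intro z hz
    rw [Matrix.GeneralLinearGroup.center_eq_range_scalar] at hz
    obtain ⟨r, rfl⟩ := hz
    rw [MonoidHom.mem_ker, hδ, MonoidHom.comp_apply, QuotientGroup.mk'_apply,
      QuotientGroup.eq_one_iff]
    exact ⟨r, Units.ext (by simp)⟩
  have ha0 : a ≠ 0 := fun h0 => ha (h0 ▸ IsSquare.zero)
  set g : GL (Fin 2) F :=
    Matrix.GeneralLinearGroup.mkOfDetNeZero !![a, 0; 0, 1] (by simp [Matrix.det_fin_two_of, ha0])
  have h1 := hom_eq_one_of_perfect (A := Fˣ ⧸ sq) h ((QuotientGroup.lift _ δ hker).comp e.toMonoidHom)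
    (e.symm (g : GL (Fin 2) F ⧸ Subgroup.center (GL (Fin 2) F)))
  rw [MonoidHom.comp_apply, MulEquiv.coe_toMonoidHom, MulEquiv.apply_symm_apply,
    QuotientGroup.lift_mk, hδ, MonoidHom.comp_apply, QuotientGroup.mk'_apply,
    QuotientGroup.eq_one_iff] at h1
  obtain ⟨r, hr⟩ := h1
  refine ha ⟨(r : F), ?_⟩
  have := congrArg Units.val hr
  simp [g] at this
  rw [← this, pow_two]

/-- A perfect group has no proper normal subgroup outside which all elements have prime order. -/
theorem not_hughesProper {K : Type u} [Group K] [Finite K] (h : commutator K = ⊤)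
    (hp : CfsgLib.Partition8.HughesProper K) : False := by
  obtain ⟨p, hp, hne⟩ := hp
  haveI := Fact.mk hp
  set N := Subgroup.closure {g : K | g ^ p ≠ 1} with hN
  haveI : N.Normal := ⟨fun n hn g => by
    have hle : N ≤ N.comap (MulAut.conj g).toMonoidHom := (Subgroup.closure_le _).mpr fun c hc => by
      refine Subgroup.subset_closure ?_
      show ((MulAut.conj g) c) ^ p ≠ 1
      rw [MulAut.conj_apply, conj_pow, Ne, conj_eq_one_iff]
      exact hc
    exact hle hn⟩
  have hP : IsPGroup p (K ⧸ N) := fun q => by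
    obtain ⟨g, rfl⟩ := QuotientGroup.mk_surjective q
    refine ⟨1, ?_⟩
    rw [pow_one, ← QuotientGroup.mk_pow, QuotientGroup.eq_one_iff]
    by_cases hg : g ^ p = 1
    · rw [hg]; exact one_mem _
    · exact pow_mem (Subgroup.subset_closure hg) p
  haveI := hP.isNilpotent
  haveI : Group.IsSolvable (K ⧸ N) := inferInstance
  exact hne (eq_top_of_solvable_quotient h)

/-- There is no perfect proper noncentral normal subgroup. -/
theorem Ker.false {G : Type u} [Group G] [Finite G] {T : Subgroup G} (hT : Ker T) : False := by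
  haveI := hT.quot_nontrivial
  have hperf := hT.quot_perfect
  obtain ⟨p, y, w, hp, hp2, hy, hw, hyw, hwp⟩ := hT.exists_data
  haveI := Fact.mk hp
  obtain ⟨P, hP⟩ := hT.exists_sylow_not_cyclic hp hy hw hyw hwp
  rcases CfsgLib.Partition8.classify hT.npart with h | h | h | h | h | h
  · exact not_sym_four hperf h.some
  · exact not_hughesProper hperf h
  · obtain ⟨H, hH⟩ := h
    exact hT.quot_not_frobenius hH
  · obtain ⟨F, iF, iFF, hF, ⟨e⟩⟩ := h
    obtain ⟨r, hr⟩ := CharP.exists F
    haveI := hr
    haveI : Fact r.Prime := ⟨CharP.char_is_prime F r⟩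
    by_cases hrp : p = r
    · subst hrp
      exact hT.not_psl_char hp hp2 hy hw hyw hwp hF e
    · apply hP
      have hsurj : Function.Surjective
          (e.symm.toMonoidHom.comp (CfsgLib.Psl2Cover.proj (F := F))) :=
        e.symm.surjective.comp CfsgLib.Psl2Cover.proj_surjective
      obtain ⟨R, hR⟩ := Sylow.mapSurjective_surjective hsurj p P
      rw [← hR, Sylow.coe_mapSurjective]
      haveI := CfsgLib.SL2.isCyclic_sylow_odd (p := r) hp2 hrp R
      exact isCyclic_of_surjective _
        ((e.symm.toMonoidHom.comp (CfsgLib.Psl2Cover.proj (F := F))).subgroupMap_surjective _)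
  · obtain ⟨F, iF, iFF, -, hodd, ⟨e⟩⟩ := h
    exact not_pgl hperf hodd e
  · obtain ⟨F, iF, iFF, m, hm, hF, ⟨e₀⟩⟩ := h
    haveI : CharP F 2 := CfsgLib.Suzuki.charP_two hF
    apply hP
    set e := (e₀.trans (CfsgLib.Suzuki.lieSzEquiv hm hF).symm).trans
      (MulEquiv.subgroupCongr (CfsgLib.Suzuki.sz_eq (F := F) (m := m)))
    obtain ⟨R, hR⟩ := Sylow.mapSurjective_surjective (f := e.symm.toMonoidHom) e.symm.surjective p P
    rw [← hR]
    show IsCyclic ↥(Subgroup.map e.symm.toMonoidHom (R : Subgroup _))
    haveI := CfsgLib.Suzuki.sylow_odd_cyclic hm hF hp2 R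
    exact isCyclic_of_surjective _ (e.symm.toMonoidHom.subgroupMap_surjective _)

end Perfect

open Perfect in
/-- Piece B. -/
theorem perfectStep : PerfectStep.{u} := by
  intro G _ _ h hrad
  have hno : ∀ N : Subgroup G, N.Normal → N ≤ Subgroup.center G ∨ N = ⊤ := by
    intro N hN
    by_contra hc
    push Not at hc
    obtain ⟨T, hTn, hTt, hTz, hTp⟩ := exists_perfect_normal h hrad hN hc.1 hc.2
    exact Ker.false ⟨h, hrad, hTn, hTt, hTz, hTp⟩
  constructor
  · rcases hno (commutator G) inferInstance with h1 | h1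
    · refine absurd ?_ h.not_solvable
      refine ⟨⟨2, ?_⟩⟩
      rw [derivedSeries_succ, derivedSeries_one, eq_bot_iff, Subgroup.commutator_le]
      intro a ha b _
      rw [Subgroup.mem_bot, commutatorElement_eq_one_iff_mul_comm]
      exact (Subgroup.mem_center_iff.mp (h1 ha) b).symm
    · exact h1
  · have hne : Subgroup.center G ≠ ⊤ := by
      intro e
      refine h.not_solvable (Group.isSolvable_of_comm fun a b => ?_)
      exact (Subgroup.mem_center_iff.mp (e.ge (Subgroup.mem_top b)) a)
    haveI : Nontrivial (G ⧸ Subgroup.center G) := (QuotientGroup.nontrivial_iff).mpr hne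
    refine ⟨fun N hN => ?_⟩
    have hs := QuotientGroup.mk'_surjective (Subgroup.center G)
    rcases hno (N.comap (QuotientGroup.mk' (Subgroup.center G))) (hN.comap _) with h1 | h1
    · left
      rw [eq_bot_iff]
      intro q hq
      obtain ⟨g, rfl⟩ := hs q
      exact Subgroup.mem_bot.mpr ((QuotientGroup.eq_one_iff g).mpr (h1 (Subgroup.mem_comap.mpr hq)))
    · right
      rw [← Subgroup.map_comap_eq_self_of_surjective hs N, h1,
        Subgroup.map_top_of_surjective _ hs]

end CfsgLib.MinNonCA98
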